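import Cfsg.Agent.Lib.Invol.Dihedral
import Cfsg.Agent.Lib.Solvable.Core
import Mathlib.GroupTheory.GroupAction.Quotient
import Mathlib.GroupTheory.GroupAction.Pointwise
import Mathlib.GroupTheory.Sylow
import Mathlib.GroupTheory.Perm.Cycle.Type

/-!
Products of an abelian 2-group and a subgroup of odd order: elementary counting and the general
facts on a regular abelian 2-subgroup with point stabilizers of odd order.
-/

set_option autoImplicit false
set_option linter.unusedSectionVars false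
set_option linter.style.haveILetI false

namespace CfsgLib.OddProduct

open MulAction Subgroup

universe u v

variable {G : Type u} [Group G]

/-- `G = S H` with `S` an abelian 2-group and `H` of odd order. -/
structure Prod2 (S H : Subgroup G) : Prop where
  two : IsPGroup 2 S
  comm : ∀ a ∈ S, ∀ b ∈ S, a * b = b * a
  odd : Odd (Nat.card H)
  mul : ∀ g : G, ∃ s ∈ S, ∃ h ∈ H, g = s * h

theorem eq_one_of_two_of_odd [Finite G] {x : G} (h2 : ∃ k : ℕ, x ^ 2 ^ k = 1)
    (ho : Odd (orderOf x)) : x = 1 := by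
  obtain ⟨k, hk⟩ := h2
  obtain ⟨j, -, hj⟩ := (Nat.dvd_prime_pow Nat.prime_two).1 (orderOf_dvd_of_pow_eq_one hk)
  rcases j with _ | j
  · exact orderOf_eq_one_iff.1 (by rw [hj, pow_zero])
  · exact absurd ho (by rw [hj, Nat.not_odd_iff_even]; exact ⟨2 ^ j, by ring⟩)

theorem odd_orderOf_of_mem {H : Subgroup G} (hH : Odd (Nat.card H)) {x : G} (hx : x ∈ H) :
    Odd (orderOf x) := hH.of_dvd_nat (H.orderOf_dvd_natCard hx)

theorem exists_two_pow {S : Subgroup G} (hS : IsPGroup 2 S) {x : G} (hx : x ∈ S) :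
    ∃ k : ℕ, x ^ 2 ^ k = 1 := by
  obtain ⟨k, hk⟩ := hS ⟨x, hx⟩
  exact ⟨k, by simpa using congrArg Subtype.val hk⟩

theorem eq_one_of_mem_mem [Finite G] {S H : Subgroup G} (hS : IsPGroup 2 S)
    (hH : Odd (Nat.card H)) {x : G} (hxS : x ∈ S) (hxH : x ∈ H) : x = 1 :=
  eq_one_of_two_of_odd (exists_two_pow hS hxS) (odd_orderOf_of_mem hH hxH)

/-- Fibres of a map on a subgroup that are cosets of `K`. -/
theorem card_eq_mul_image [Finite G] {X : Type*} (f : G → X) {H K : Subgroup G} (hKH : K ≤ H)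
    (hf : ∀ a ∈ H, ∀ b ∈ H, f a = f b ↔ a⁻¹ * b ∈ K) :
    Nat.card H = Nat.card K * (f '' (H : Set G)).ncard := by
  let φ : H ⧸ K.subgroupOf H → X := Quotient.lift (fun a : H => f a) (fun a b hab => by
    have hab' := mem_subgroupOf.1 (QuotientGroup.leftRel_apply.1 hab)
    exact (hf a a.2 b b.2).2 (by simpa using hab'))
  have hinj : Function.Injective φ := by
    intro x y
    induction x using QuotientGroup.induction_on with
    | H a =>
      induction y using QuotientGroup.induction_on with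
      | H b =>
        intro h
        exact QuotientGroup.eq.2 (mem_subgroupOf.2 (by simpa using (hf a a.2 b b.2).1 h))
  have hr : Set.range φ = f '' (H : Set G) := by
    ext z
    constructor
    · rintro ⟨x, rfl⟩
      induction x using QuotientGroup.induction_on with
      | H a => exact ⟨a, a.2, rfl⟩
    · rintro ⟨a, ha, rfl⟩
      exact ⟨((⟨a, ha⟩ : H) : H ⧸ K.subgroupOf H), rfl⟩
  rw [card_eq_card_quotient_mul_card_subgroup (K.subgroupOf H), ← hr,
    Set.ncard_range_of_injective hinj, Nat.card_congr (subgroupOfEquivOfLe hKH).toEquiv, mul_comm]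

variable {Δ : Type v} [MulAction G Δ]

/-- A subgroup acting freely on an invariant set divides its size. -/
theorem card_dvd_of_free [Finite G] [Finite Δ] (K : Subgroup G) (E : Set Δ)
    (hinv : ∀ k ∈ K, ∀ x ∈ E, k • x ∈ E) (hfree : ∀ k ∈ K, ∀ x ∈ E, k • x = x → k = 1) :
    Nat.card K ∣ E.ncard := by
  letI : MulAction K E :=
    { smul := fun k x => ⟨(k : G) • (x : Δ), hinv k k.2 x x.2⟩
      one_smul := fun x => Subtype.ext (one_smul G (x : Δ))
      mul_smul := fun a b x => Subtype.ext (mul_smul (a : G) b (x : Δ)) }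
  have hstab : ∀ x : E, MulAction.stabilizer K x = ⊥ := by
    intro x
    rw [Subgroup.eq_bot_iff_forall]
    intro k hk
    exact Subtype.ext (hfree k k.2 x x.2 (congrArg Subtype.val hk))
  haveI := Fintype.ofFinite (Quotient (MulAction.orbitRel K E))
  rw [← Nat.card_coe_set_eq E,
    Nat.card_congr (MulAction.selfEquivSigmaOrbitsQuotientStabilizer K E), Nat.card_sigma]
  refine Finset.dvd_sum fun ω _ => ?_
  rw [hstab, ← Subgroup.index, Subgroup.index_bot]

/-- An odd normalised subgroup fixes a point when its orbit lies in that of a 2-subgroup. -/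
theorem fix_of_odd [Finite G] {Y W : Subgroup G} (hY : IsPGroup 2 Y) (hW : Odd (Nat.card W))
    (hnorm : ∀ y ∈ Y, ∀ w ∈ W, y * w * y⁻¹ ∈ W) {γ : Δ}
    (hfree : ∀ y ∈ Y, y • γ = γ → y = 1)
    (hcover : ∀ w ∈ W, ∃ y ∈ Y, w • γ = y • γ) : ∀ w ∈ W, w • γ = γ := by
  let Z : Subgroup G :=
    { carrier := {y | y ∈ Y ∧ ∃ w ∈ W, y • γ = w • γ}
      one_mem' := ⟨one_mem Y, 1, one_mem W, rfl⟩
      mul_mem' := by
        rintro a b ⟨ha, wa, hwa, ea⟩ ⟨hb, wb, hwb, eb⟩
        refine ⟨mul_mem ha hb, (a * wb * a⁻¹) * wa, mul_mem (hnorm a ha wb hwb) hwa, ?_⟩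
        rw [mul_smul (a * wb * a⁻¹) wa, ← ea, mul_smul a b, eb]
        simp [← mul_smul, mul_assoc]
      inv_mem' := by
        rintro a ⟨ha, wa, hwa, ea⟩
        refine ⟨inv_mem ha, a⁻¹ * wa⁻¹ * a, by simpa using hnorm a⁻¹ (inv_mem ha) wa⁻¹ (inv_mem hwa), ?_⟩
        have h : wa⁻¹ • (a • γ) = γ := by rw [ea, inv_smul_smul]
        rw [mul_smul, mul_smul, h] }
  let K : Subgroup G := W ⊓ MulAction.stabilizer G γ
  have h1 := card_eq_mul_image (fun g : G => g • γ) (H := W) (K := K) inf_le_left (fun a ha b hb => by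
    simp only [K, Subgroup.mem_inf, mem_stabilizer_iff]
    constructor
    · intro h
      exact ⟨mul_mem (inv_mem ha) hb, by rw [mul_smul, ← h, inv_smul_smul]⟩
    · rintro ⟨-, h⟩
      rw [mul_smul, inv_smul_eq_iff] at h
      exact h.symm)
  have h2 := card_eq_mul_image (fun g : G => g • γ) (H := Z) (K := ⊥) bot_le (fun a ha b hb => by
    rw [Subgroup.mem_bot]
    constructor
    · intro h
      exact hfree _ (mul_mem (inv_mem ha.1) hb.1) (by rw [mul_smul, ← h, inv_smul_smul])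
    · intro h
      rw [inv_mul_eq_one] at h
      rw [h])
  have himg : (fun g : G => g • γ) '' (Z : Set G) = (fun g : G => g • γ) '' (W : Set G) := by
    ext δ
    constructor
    · rintro ⟨y, ⟨-, w, hw, e⟩, rfl⟩
      exact ⟨w, hw, e.symm⟩
    · rintro ⟨w, hw, rfl⟩
      obtain ⟨y, hy, e⟩ := hcover w hw
      exact ⟨y, ⟨hy, w, hw, e.symm⟩, e.symm⟩
  rw [card_bot, one_mul, himg] at h2
  have hodd : Odd (Nat.card Z) := by
    rw [h2]
    exact hW.of_dvd_nat ⟨_, h1.trans (mul_comm _ _)⟩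
  intro w hw
  obtain ⟨y, hy, e⟩ := hcover w hw
  have : y = 1 := eq_one_of_mem_mem hY hodd hy (show y ∈ Z from ⟨hy, w, hw, e.symm⟩)
  rw [e, this, one_smul]

/-- The standing hypotheses. -/
structure Ctx (S : Subgroup G) (α : Δ) : Prop where
  simple : IsSimpleGroup G
  nsolv : ¬ Group.IsSolvable G
  ih : ∀ X : Subgroup G, X ≠ ⊤ → ∀ S₁ H₁ : Subgroup ↥X, Prod2 S₁ H₁ → Group.IsSolvable ↥X
  two : IsPGroup 2 S
  comm : ∀ a ∈ S, ∀ b ∈ S, a * b = b * a
  sylow : Odd S.index
  regular : ∀ δ : Δ, ∃ s ∈ S, s • α = δ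
  stab_odd : Odd (Nat.card (MulAction.stabilizer G α))
  max : ∀ M : Subgroup G, MulAction.stabilizer G α ≤ M → M = MulAction.stabilizer G α ∨ M = ⊤
  faithful : ∀ g : G, (∀ δ : Δ, g • δ = δ) → g = 1

namespace Ctx

variable [Finite G] [Finite Δ] {S : Subgroup G} {α : Δ} (C : Ctx S α)
include C

theorem stab_odd_any (γ : Δ) : Odd (Nat.card (MulAction.stabilizer G γ)) := by
  obtain ⟨s, -, rfl⟩ := C.regular γ
  rw [Nat.card_congr (MulAction.stabilizerEquivStabilizer (g := s) rfl).symm.toEquiv]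
  exact C.stab_odd

theorem free {s : G} (hs : ∃ k : ℕ, s ^ 2 ^ k = 1) {γ : Δ} (h : s • γ = γ) : s = 1 :=
  eq_one_of_two_of_odd hs (odd_orderOf_of_mem (C.stab_odd_any γ) (mem_stabilizer_iff.2 h))

theorem invol_free {t : G} (ht : orderOf t = 2) (γ : Δ) : t • γ ≠ γ := fun h => by
  have := C.free ⟨1, by rw [pow_one, ← ht, pow_orderOf_eq_one]⟩ h
  rw [this, orderOf_one] at ht
  omega

theorem inj_orbit {a b : G} (ha : a ∈ S) (hb : b ∈ S) {γ : Δ} (h : a • γ = b • γ) : a = b := by
  have := C.free (exists_two_pow C.two (mul_mem (inv_mem hb) ha)) (γ := γ)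
    (by rw [mul_smul, h, inv_smul_smul])
  exact (inv_mul_eq_one.1 this).symm

theorem regular_any (γ δ : Δ) : ∃ s ∈ S, s • γ = δ := by
  obtain ⟨a, ha, rfl⟩ := C.regular γ
  obtain ⟨b, hb, rfl⟩ := C.regular δ
  exact ⟨b * a⁻¹, mul_mem hb (inv_mem ha), by rw [← mul_smul, inv_mul_cancel_right]⟩

theorem mul_decomp (g : G) : ∃ s ∈ S, ∃ h ∈ MulAction.stabilizer G α, g = s * h := by
  obtain ⟨s, hs, e⟩ := C.regular (g • α)
  exact ⟨s, hs, s⁻¹ * g, by rw [mem_stabilizer_iff, mul_smul, ← e, inv_smul_smul],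
    (mul_inv_cancel_left s g).symm⟩

theorem mul_decomp' (g : G) : ∃ h ∈ MulAction.stabilizer G α, ∃ s ∈ S, g = h * s := by
  obtain ⟨s, hs, h, hh, e⟩ := C.mul_decomp g⁻¹
  exact ⟨h⁻¹, inv_mem hh, s⁻¹, inv_mem hs, by rw [← mul_inv_rev, ← e, inv_inv]⟩

theorem S_ne_bot : S ≠ ⊥ := by
  intro h
  subst h
  have hall : ∀ δ : Δ, δ = α := fun δ => by
    obtain ⟨s, hs, rfl⟩ := C.regular δ
    rw [Subgroup.mem_bot.1 hs, one_smul]
  refine C.nsolv (Group.isSolvable_of_comm fun a b => ?_)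
  rw [C.faithful a fun δ => (hall _).trans (hall δ).symm,
    C.faithful b fun δ => (hall _).trans (hall δ).symm]

theorem S_not_normal : ¬ S.Normal := by
  intro hn
  rcases C.simple.eq_bot_or_eq_top_of_normal S hn with h | h
  · exact C.S_ne_bot h
  · refine C.nsolv (Group.isSolvable_of_comm fun a b => C.comm a ?_ b ?_) <;> rw [h] <;> trivial

theorem normalizer_ne_top : normalizer (S : Set G) ≠ ⊤ := fun h =>
  C.S_not_normal (normalizer_eq_top_iff.1 h)

theorem center_eq_bot : Subgroup.center G = ⊥ := by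
  rcases C.simple.eq_bot_or_eq_top_of_normal (Subgroup.center G) inferInstance with h | h
  · exact h
  · refine absurd (Group.isSolvable_of_comm fun a b => ?_) C.nsolv
    exact (Subgroup.mem_center_iff.1 (h ▸ Subgroup.mem_top a : a ∈ Subgroup.center G) b).symm

theorem centralizer_le : centralizer (S : Set G) ≤ S := by
  intro g hg
  obtain ⟨s, hs, h, hh, rfl⟩ := C.mul_decomp g
  suffices h = 1 by rw [this, mul_one]; exact hs
  refine C.faithful h fun δ => ?_
  obtain ⟨y, hy, rfl⟩ := C.regular δ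
  have e1 : y * h = h * y := by
    have e := mem_centralizer_iff.1 hg y hy
    rw [← mul_assoc, C.comm y hy s hs, mul_assoc, mul_assoc] at e
    exact mul_left_cancel e
  rw [← mul_smul, ← e1, mul_smul, mem_stabilizer_iff.1 hh]

/-- A subgroup containing `S` has no odd normal subgroup. -/
theorem odd_normalized_eq_bot {W : Subgroup G} (hW : Odd (Nat.card W))
    (hn : ∀ s ∈ S, ∀ w ∈ W, s * w * s⁻¹ ∈ W) : W = ⊥ := by
  rw [Subgroup.eq_bot_iff_forall]
  intro w hw
  refine C.faithful w fun δ => fix_of_odd (γ := δ) C.two hW hn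
    (fun y hy h => C.free (exists_two_pow C.two hy) h) (fun x _ => ?_) w hw
  obtain ⟨s, hs, e⟩ := C.regular_any δ (x • δ)
  exact ⟨s, hs, e.symm⟩

end Ctx

end CfsgLib.OddProduct
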