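import Cfsg.Agent.Lib.OddProduct.Local

/-!
Counting conjugates of the regular subgroup, involutions and suborbit lengths.
-/

set_option autoImplicit false
set_option linter.unusedSectionVars false
set_option linter.style.haveILetI false

namespace CfsgLib.OddProduct

open MulAction Subgroup

universe u v

variable {G : Type u} [Group G] {Δ : Type v} [MulAction G Δ]

theorem card_orbit_mul [Finite G] (H : Subgroup G) (δ : Δ) :
    Nat.card H = Nat.card (H ⊓ MulAction.stabilizer G δ : Subgroup G) *
      ((fun g : G => g • δ) '' (H : Set G)).ncard :=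
  card_eq_mul_image _ inf_le_left fun a ha b hb => by
    simp only [Subgroup.mem_inf, mem_stabilizer_iff]
    constructor
    · intro h
      exact ⟨mul_mem (inv_mem ha) hb, by rw [mul_smul, ← h, inv_smul_smul]⟩
    · rintro ⟨-, h⟩
      rw [mul_smul, inv_smul_eq_iff] at h
      exact h.symm

theorem isSolvable_of_isPGroup [Finite G] {p : ℕ} [Fact p.Prime] {P : Subgroup G}
    (hP : IsPGroup p P) : Group.IsSolvable P := by
  haveI := hP.isNilpotent
  infer_instance

namespace Ctx

variable [Finite G] [Finite Δ] {S : Subgroup G} {α : Δ} (C : Ctx S α)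
include C

theorem card_points : Nat.card Δ = Nat.card S := by
  refine (Nat.card_congr (Equiv.ofBijective (fun s : S => (s : G) • α) ⟨fun a b h => ?_, fun δ => ?_⟩)).symm
  · exact Subtype.ext (C.inj_orbit a.2 b.2 h)
  · obtain ⟨s, hs, rfl⟩ := C.regular δ
    exact ⟨⟨s, hs⟩, rfl⟩

theorem card_stab_mul :
    Nat.card (MulAction.stabilizer G α) =
      Nat.card (MulAction.stabilizer G α ⊓ normalizer (S : Set G) : Subgroup G) *
        Nat.card (G ⧸ normalizer (S : Set G)) := by
  rw [card_eq_mul_image (fun g : G => (g : G ⧸ normalizer (S : Set G))) inf_le_left (fun a ha b hb => by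
    rw [QuotientGroup.eq, Subgroup.mem_inf]
    exact ⟨fun h => ⟨mul_mem (inv_mem ha) hb, h⟩, fun h => h.2⟩)]
  congr 1
  rw [← Set.ncard_univ]
  congr 1
  ext ω
  simp only [Set.mem_univ, iff_true]
  induction ω using QuotientGroup.induction_on with
  | H g =>
    obtain ⟨h, hh, s, hs, rfl⟩ := C.mul_decomp' g
    refine ⟨h, hh, QuotientGroup.eq.2 ?_⟩
    rw [inv_mul_cancel_left]
    exact Subgroup.le_normalizer hs

theorem conjugates_modEq :
    ∃ k : ℕ, Nat.card (G ⧸ normalizer (S : Set G)) = 1 + k * Nat.card S := by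
  set ω₀ : G ⧸ normalizer (S : Set G) := ((1 : G) : G ⧸ normalizer (S : Set G))
  have h : Nat.card S ∣ ({ω₀}ᶜ : Set (G ⧸ normalizer (S : Set G))).ncard := by
    refine card_dvd_of_free S _ (fun s hs x hx he => hx ?_) (fun s hs x hx he => ?_)
    · rw [Set.mem_singleton_iff, eq_inv_smul_iff.2 he]
      show ((s⁻¹ * 1 : G) : G ⧸ normalizer (S : Set G)) = ω₀
      exact QuotientGroup.eq.2 (by simpa using Subgroup.le_normalizer hs)
    · induction x using QuotientGroup.induction_on with
      | H g =>
        by_contra hs1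
        refine hx ?_
        have he' : ((s * g : G) : G ⧸ normalizer (S : Set G)) = (g : G ⧸ normalizer (S : Set G)) := he
        have hn : g⁻¹ * s * g ∈ normalizer (S : Set G) := by
          have := inv_mem (QuotientGroup.eq.1 he')
          simpa [mul_assoc] using this
        have hS' : g⁻¹ * s * g ∈ S := by
          refine C.mem_of_two_elem ?_ hn
          obtain ⟨k, hk⟩ := exists_two_pow C.two hs
          refine ⟨k, ?_⟩
          have e := conj_pow (i := 2 ^ k) (a := g⁻¹) (b := s)
          rw [inv_inv, hk, mul_one, inv_mul_cancel] at e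
          exact e
        have := C.mem_normalizer_of_conj hs hs1 (g := g⁻¹) (by rw [inv_inv]; exact hS')
        exact Set.mem_singleton_iff.2 (QuotientGroup.eq.2 (by simpa using inv_mem this))
  obtain ⟨k, hk⟩ := h
  refine ⟨k, ?_⟩
  rw [← Set.ncard_add_ncard_compl {ω₀}, Set.ncard_singleton, hk, mul_comm]

theorem card_stabN_mul {t : G} (ht : t ∈ S) (hto : orderOf t = 2) :
    Nat.card (MulAction.stabilizer G α ⊓ normalizer (S : Set G) : Subgroup G) =
      Nat.card (MulAction.stabilizer G α ⊓ centralizer ({t} : Set G) : Subgroup G) *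
        ({x | x ∈ S ∧ orderOf x = 2} : Set G).ncard := by
  rw [card_eq_mul_image (fun g : G => g * t * g⁻¹)
    (K := MulAction.stabilizer G α ⊓ centralizer ({t} : Set G))
    (le_inf inf_le_left (inf_le_right.trans
      (C.centralizer_le_normalizer' ht (CfsgLib.Invol.ne_one_of_invol hto)))) (fun a ha b hb => by
    rw [Subgroup.mem_inf, mem_centralizer_singleton_iff]
    constructor
    · intro h
      refine ⟨mul_mem (inv_mem ha.1) hb.1, ?_⟩
      calc a⁻¹ * b * t = a⁻¹ * (b * t * b⁻¹) * b := by group
        _ = a⁻¹ * (a * t * a⁻¹) * b := by rw [← h]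
        _ = t * (a⁻¹ * b) := by group
    · rintro ⟨-, h⟩
      calc a * t * a⁻¹ = a * (t * (a⁻¹ * b)) * b⁻¹ := by group
        _ = a * (a⁻¹ * b * t) * b⁻¹ := by rw [h]
        _ = b * t * b⁻¹ := by group)]
  congr 2
  ext x
  constructor
  · rintro ⟨a, ha, rfl⟩
    exact ⟨(mem_normalizer_iff.1 ha.2 t).1 ht, by rw [CfsgLib.Invol.orderOf_conj, hto]⟩
  · rintro ⟨hx, hxo⟩
    obtain ⟨a, ha, haN, e⟩ := C.conj_invol ht hto hx hxo
    exact ⟨a, ⟨ha, haN⟩, e⟩

theorem card_stab_suborbit {t : G} (ht : t ∈ S) (hto : orderOf t = 2) :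
    Nat.card (MulAction.stabilizer G α) =
      Nat.card (pairStab (G := G) α (t • α)) * (Nat.card S - 1) := by
  rw [card_orbit_mul (MulAction.stabilizer G α) (t • α)]
  congr 1
  have h : (fun g : G => g • t • α) '' (MulAction.stabilizer G α : Set G) = {α}ᶜ := by
    ext δ
    constructor
    · rintro ⟨h, hh, rfl⟩ (e : h • t • α = α)
      exact C.invol_free hto α (MulAction.injective h (e.trans (mem_stabilizer_iff.1 hh).symm))
    · intro hδ
      exact C.two_transitive ht hto hδ
  rw [h, Set.ncard_compl, Set.ncard_singleton, C.card_points]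

theorem mem_centralizer_of_pair {t r : G} (ht : t ∈ S) (hr : r ∈ pairStab α (t • α))
    (hn : r ∈ normalizer (S : Set G)) : r ∈ centralizer ({t} : Set G) := by
  rw [mem_centralizer_singleton_iff]
  have h1 : (r * t * r⁻¹) • α = t • α := by
    rw [mul_smul, mul_smul, inv_smul_eq_iff.2 (mem_pairStab.1 hr).1.symm, (mem_pairStab.1 hr).2]
  have h2 := C.inj_orbit ((mem_normalizer_iff.1 hn t).1 ht) ht h1
  calc r * t = r * t * r⁻¹ * r := by group
    _ = t * r := by rw [h2]

theorem normalizer_ne_top_of_pGroup {p : ℕ} [Fact p.Prime] {P : Subgroup G} (hP : IsPGroup p P)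
    (h : P ≠ ⊥) : normalizer (P : Set G) ≠ ⊤ := by
  intro htop
  have hn : P.Normal := normalizer_eq_top_iff.1 htop
  rcases C.simple.eq_bot_or_eq_top_of_normal P hn with h' | h'
  · exact h h'
  · subst h'
    haveI := (hP.of_equiv Subgroup.topEquiv).isNilpotent
    exact C.nsolv inferInstance

end Ctx

end CfsgLib.OddProduct
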