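import Cfsg.Agent.Lib.OddProduct.Count
import Cfsg.Agent.Lib.Solvable.CoprimeAction
import Mathlib.GroupTheory.Nilpotent

/-!
The regular subgroup is not elementary abelian.
-/

set_option autoImplicit false
set_option linter.unusedSectionVars false
set_option linter.style.haveILetI false

namespace CfsgLib.OddProduct

open MulAction Subgroup

universe u v

variable {G : Type u} [Group G] {Δ : Type v} [MulAction G Δ]

theorem exists_normalizer_gt [Finite G] {p : ℕ} [Fact p.Prime] {P Q : Subgroup G}
    (hQ : IsPGroup p Q) (hPQ : P ≤ Q) (hne : Nat.card P < Nat.card Q) :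
    Nat.card P < Nat.card (Q ⊓ normalizer (P : Set G) : Subgroup G) := by
  haveI := hQ.isNilpotent
  have hlt : P.subgroupOf Q < ⊤ := lt_of_le_of_ne le_top fun h =>
    hne.ne (le_antisymm (Subgroup.card_le_of_le hPQ)
      (Subgroup.card_le_of_le (Subgroup.subgroupOf_eq_top.1 h)))
  obtain ⟨x, hxn, hxP⟩ := SetLike.exists_of_lt
    (Group.normalizerCondition_of_isNilpotent (P.subgroupOf Q) hlt)
  have hsub : P ≤ Q ⊓ normalizer (P : Set G) := le_inf hPQ Subgroup.le_normalizer
  refine lt_of_le_of_ne (Subgroup.card_le_of_le hsub) fun h => hxP ?_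
  have heq := Subgroup.eq_of_le_of_card_ge hsub h.ge
  refine mem_subgroupOf.2 (heq.symm.le ⟨x.2, Subgroup.mem_normalizer_fintype fun y hy => ?_⟩)
  exact mem_subgroupOf.1
    ((mem_normalizer_iff.1 hxn ⟨y, hPQ hy⟩).1 (mem_subgroupOf.2 hy))

theorem card_le_pPart [Finite G] {p : ℕ} [Fact p.Prime] {P L : Subgroup G} (hP : IsPGroup p P)
    (hPL : P ≤ L) : Nat.card P ≤ p ^ (Nat.card L).factorization p := by
  obtain ⟨k, hk⟩ := hP.exists_card_eq
  rw [hk]
  refine Nat.pow_le_pow_right (Fact.out : p.Prime).pos ?_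
  exact ((Fact.out : p.Prime).pow_dvd_iff_le_factorization Nat.card_pos.ne').1
    (hk ▸ Subgroup.card_dvd_of_le hPL)

namespace Ctx

variable [Finite G] [Finite Δ] {S : Subgroup G} {α : Δ} (C : Ctx S α)
include C

/-- A Sylow subgroup of the two point stabilizer not centralising the involution fixes two points. -/
theorem fix_two {t : G} (ht : t ∈ S) (hto : orderOf t = 2) {p : ℕ} [Fact p.Prime] {R : Subgroup G}
    (hR : IsPGroup p R) (hRK : R ≤ pairStab α (t • α))
    (hcard : Nat.card R = p ^ (Nat.card (pairStab (G := G) α (t • α))).factorization p)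
    (htR : t ∈ normalizer (R : Set G)) (hD : ¬ R ≤ centralizer ({t} : Set G)) {δ : Δ}
    (hδ : ∀ r ∈ R, r • δ = δ) : δ = α ∨ δ = t • α := by
  by_contra hne
  push Not at hne
  have ht1 := CfsgLib.Invol.ne_one_of_invol hto
  have hα : α ≠ t • α := fun e => C.invol_free hto α e.symm
  set F : Set Δ := {ε | ∀ r ∈ R, r • ε = ε}
  have hpair : ∀ a ∈ F, ∀ b ∈ F, R ≤ pairStab a b := fun a ha b hb r hr => ⟨ha r hr, hb r hr⟩
  have hpt : ∀ γ₁ ∈ F, ∀ δ₁ ∈ F, ∀ δ₂ ∈ F, δ₁ ≠ γ₁ → δ₂ ≠ γ₁ →
      ∃ x ∈ normalizer (R : Set G), x • γ₁ = γ₁ ∧ x • δ₁ = δ₂ := by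
    intro γ₁ h1 δ₁ h2 δ₂ h3 e1 e2
    exact C.witt (Ne.symm e1) (Ne.symm e2) (hpair _ h1 _ h2) (hpair _ h1 _ h3)
      (by rw [C.card_pairStab (Ne.symm e1) hα, hcard])
  have hinv : ∀ x ∈ normalizer (R : Set G), ∀ ε ∈ F, x • ε ∈ F := by
    intro x hx ε hε r hr
    have hm : x⁻¹ * r * x ∈ R := by
      have := (mem_normalizer_iff.1 (inv_mem hx) r).1 hr
      rwa [inv_inv] at this
    have := hε _ hm
    rwa [mul_smul, mul_smul, inv_smul_eq_iff] at this
  have hp := C.hasPair_of_twoTrans hinv hpt (fun r hr => (hRK hr).1) (fun r hr => (hRK hr).2) hδ hα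
    (Ne.symm hne.1) (Ne.symm hne.2)
  obtain ⟨b, hb, hbo, htb, hc⟩ := C.exists_partner hp htR hto
  have hRN := C.le_normalizer_of_four ((C.odd_pairStab α (t • α)).of_dvd_nat (Subgroup.card_dvd_of_le hRK))
    (isSolvable_of_isPGroup hR) ht hto hbo htb hc htR hb
  exact hD fun r hr => C.mem_centralizer_of_pair ht (hRK hr) (hRN hr)

theorem not_elementary (hH : Group.IsSolvable (MulAction.stabilizer G α))
    (hel : ∀ x ∈ S, x * x = 1) : False := by
  obtain ⟨t, ht, hto⟩ := C.exists_invol
  set H := MulAction.stabilizer G α with hHdef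
  set A := H ⊓ normalizer (S : Set G)
  set K := pairStab (G := G) α (t • α)
  have hm : ({x | x ∈ S ∧ orderOf x = 2} : Set G).ncard = Nat.card S - 1 := by
    have : ({x | x ∈ S ∧ orderOf x = 2} : Set G) = (S : Set G) \ {1} := by
      ext x
      simp only [Set.mem_setOf_eq, Set.mem_sdiff, SetLike.mem_coe, Set.mem_singleton_iff]
      exact ⟨fun h => ⟨h.1, CfsgLib.Invol.ne_one_of_invol h.2⟩,
        fun h => ⟨h.1, CfsgLib.Invol.orderOf_eq_two h.2 (hel x h.1)⟩⟩
    rw [this, Set.ncard_diff_singleton_of_mem (one_mem S), ← Nat.card_coe_set_eq]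
    rfl
  have h1 := C.card_stab_mul
  have h2 := C.card_stabN_mul ht hto
  have h3 := C.card_stab_suborbit ht hto
  rw [hm] at h2
  have hS1 : 0 < Nat.card S - 1 := by
    have : 1 < Nat.card S := (Subgroup.one_lt_card_iff_ne_bot S).2 C.S_ne_bot
    omega
  have hK : Nat.card K = Nat.card (H ⊓ centralizer ({t} : Set G) : Subgroup G) *
      Nat.card (G ⧸ normalizer (S : Set G)) := by
    refine Nat.eq_of_mul_eq_mul_right hS1 ?_
    rw [← h3, h1, h2, mul_right_comm]
  haveI : Nontrivial H := by
    by_contra hnt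
    rw [not_nontrivial_iff_subsingleton] at hnt
    have hall : ∀ g : G, g ∈ S := fun g => by
      obtain ⟨s, hs, h, hh, rfl⟩ := C.mul_decomp g
      rw [show h = 1 from congrArg Subtype.val (Subsingleton.elim (⟨h, hh⟩ : H) 1), mul_one]
      exact hs
    exact C.nsolv (Group.isSolvable_of_comm fun a b => C.comm a (hall a) b (hall b))
  obtain ⟨M, hMn, hMne, -, hmin⟩ :=
    CfsgLib.Solvable.exists_minimal_normal_le (⊤ : Subgroup H) top_ne_bot
  obtain ⟨-, q, hq, hexp⟩ := CfsgLib.Solvable.minimal_normal_elementary_abelian M hMne hmin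
  haveI := Fact.mk hq
  have hMq : IsPGroup q M := fun x => ⟨1, Subtype.ext (by simpa using hexp x x.2)⟩
  have hMsyl : ∀ P : Sylow q H, M ≤ (P : Subgroup H) := fun P =>
    (CfsgLib.Solvable.le_pCore hMn hMq).trans (CfsgLib.Solvable.pCore_le_sylow P)
  suffices key : ∀ x ∈ M, (x : G) = 1 by
    exact hMne ((Subgroup.eq_bot_iff_forall _).2 fun x hx => Subtype.ext (key x hx))
  by_cases hqN : q ∣ Nat.card (G ⧸ normalizer (S : Set G))
  · -- the prime divides the number of conjugates
    have htK : zpowers t ≤ normalizer (K : Set G) := by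
      refine zpowers_le.2 (Subgroup.mem_normalizer_fintype fun x hx => ?_)
      have h2 : t • t • α = α := by rw [← mul_smul, CfsgLib.Invol.mul_self_eq_one hto, one_smul]
      have hx' := mem_pairStab.1 hx
      rw [CfsgLib.Invol.inv_eq_self hto]
      refine mem_pairStab.2 ⟨?_, ?_⟩
      · rw [mul_smul, mul_smul, hx'.2, h2]
      · rw [mul_smul, mul_smul, h2, hx'.1]
    have hcop : (Nat.card (zpowers t)).Coprime (Nat.card K) := by
      rw [Nat.card_zpowers, hto]
      exact Nat.coprime_two_left.2 (C.odd_pairStab _ _)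
    obtain ⟨P, hP⟩ := CfsgLib.Solvable.exists_invariant_sylow htK hcop
      (Or.inl (Group.isSolvable_of_comm fun a b => by
        obtain ⟨i, hi⟩ := a.2; obtain ⟨j, hj⟩ := b.2
        exact Subtype.ext (by
          show (a : G) * b = b * a
          rw [← hi, ← hj]; exact (Commute.zpow_zpow_self t i j).eq))) q
    set R : Subgroup G := (P : Subgroup K).map K.subtype
    have hRq : IsPGroup q R := P.2.map _
    have hRK : R ≤ K := Subgroup.map_subtype_le _
    have hRcard : Nat.card R = q ^ (Nat.card K).factorization q := by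
      rw [← P.card_eq_multiplicity]
      exact Nat.card_congr ((P : Subgroup K).equivMapOfInjective _ K.subtype_injective).toEquiv.symm
    have hRD : ¬ R ≤ centralizer ({t} : Set G) := by
      intro hle
      have hle' : R ≤ H ⊓ centralizer ({t} : Set G) := le_inf (hRK.trans inf_le_left) hle
      have := card_le_pPart hRq hle'
      rw [hRcard, hK, Nat.factorization_mul Nat.card_pos.ne' Nat.card_pos.ne', Finsupp.add_apply] at this
      have h0 := hq.factorization_pos_of_dvd Nat.card_pos.ne' hqN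
      have := (Nat.pow_le_pow_iff_right hq.one_lt).1 this
      omega
    have hfix := fun δ hδ => C.fix_two ht hto hRq hRK hRcard (hP (mem_zpowers t)) hRD (δ := δ) hδ
    -- `R` is a Sylow subgroup of the point stabilizer
    have hRH : R ≤ H := hRK.trans inf_le_left
    obtain ⟨Q, hQ⟩ := (hRq.comap_of_injective H.subtype H.subtype_injective : IsPGroup q (R.subgroupOf H)).exists_le_sylow
    set Q' : Subgroup G := (Q : Subgroup H).map H.subtype
    have hQ'q : IsPGroup q Q' := Q.2.map _
    have hRQ : R ≤ Q' := fun r hr => ⟨⟨r, hRH hr⟩, hQ (mem_subgroupOf.2 hr), rfl⟩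
    have hQR : Nat.card Q' ≤ Nat.card R := by
      by_contra hlt
      push Not at hlt
      have hgt := exists_normalizer_gt hQ'q hRQ hlt
      have hle : Q' ⊓ normalizer (R : Set G) ≤ K := by
        rintro x ⟨hxQ, hxN⟩
        have hxH : x ∈ H := Subgroup.map_subtype_le _ hxQ
        have hxα : x • α = α := mem_stabilizer_iff.1 hxH
        refine ⟨hxH, ?_⟩
        rcases hfix (x • t • α) (fun r hr => by
          have hm : x⁻¹ * r * x ∈ R := by
            have := (mem_normalizer_iff.1 (inv_mem hxN) r).1 hr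
            rwa [inv_inv] at this
          have := (mem_pairStab.1 (hRK hm)).2
          rwa [mul_smul, mul_smul, inv_smul_eq_iff] at this) with h | h
        · exact absurd (MulAction.injective x (h.trans hxα.symm)) (C.invol_free hto α)
        · exact h
      have := card_le_pPart (hQ'q.to_le inf_le_left) hle
      rw [← hRcard] at this
      omega
    have hMR : ∀ x ∈ M, (x : G) ∈ R := fun x hx => by
      rw [Subgroup.eq_of_le_of_card_ge hRQ hQR]
      exact ⟨x, hMsyl Q hx, rfl⟩
    intro x hx
    refine C.faithful _ fun δ => ?_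
    by_cases hδ : δ = α
    · rw [hδ]; exact mem_stabilizer_iff.1 x.2
    obtain ⟨h, hh, rfl⟩ := C.two_transitive ht hto hδ
    have := (mem_pairStab.1 (hRK (hMR _ (hMn.conj_mem x hx (⟨h, hh⟩ : H)⁻¹)))).2
    simpa [mul_smul, inv_smul_eq_iff] using this
  · -- the prime does not divide it
    obtain ⟨P⟩ : Nonempty (Sylow q A) := inferInstance
    have hA : A ≤ H := inf_le_left
    have hPH : (P : Subgroup A).map A.subtype ≤ H := (Subgroup.map_subtype_le _).trans hA
    have hPcard : Nat.card (((P : Subgroup A).map A.subtype).subgroupOf H) =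
        q ^ (Nat.card H).factorization q := by
      rw [Nat.card_congr (subgroupOfEquivOfLe hPH).toEquiv,
        Nat.card_congr ((P : Subgroup A).equivMapOfInjective _ A.subtype_injective).toEquiv.symm,
        P.card_eq_multiplicity, h1, Nat.factorization_mul Nat.card_pos.ne' Nat.card_pos.ne',
        Finsupp.add_apply, Nat.factorization_eq_zero_of_not_dvd hqN, add_zero]
    have hMA : ∀ x ∈ M, (x : G) ∈ normalizer (S : Set G) := fun x hx =>
      (Subgroup.map_subtype_le _ (mem_subgroupOf.1 (hMsyl (Sylow.ofCard _ hPcard) hx))).2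
    intro x hx
    rcases C.simple.eq_bot_or_eq_top_of_normal (normalizer (S : Set G)).normalCore inferInstance
      with h | h
    · refine Subgroup.mem_bot.1 (h ▸ ?_)
      intro g
      obtain ⟨s, hs, k, hk, rfl⟩ := C.mul_decomp g
      have hk' : k * (x : G) * k⁻¹ ∈ normalizer (S : Set G) :=
        hMA _ (hMn.conj_mem x hx ⟨k, hk⟩)
      have := mul_mem (mul_mem (Subgroup.le_normalizer hs) hk') (inv_mem (Subgroup.le_normalizer hs))
      simpa [mul_assoc] using this
    · exact absurd (top_le_iff.1 (h ▸ Subgroup.normalCore_le _)) C.normalizer_ne_top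

end Ctx

end CfsgLib.OddProduct
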