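import Cfsg.Agent.Lib.OddProduct.Schur
import Cfsg.Agent.Lib.Case.TwoNilpotent
import Cfsg.Agent.Lib.Signalizer.Commutators
import Cfsg.Agent.Lib.Solvable.UniqueInvolution

/-!
Normalizers of odd `p`-subgroups fixing several points: Witt's lemma, the four-group argument and
the cyclic Sylow 2-subgroup argument.
-/

set_option autoImplicit false
set_option linter.unusedSectionVars false
set_option linter.style.haveILetI false

namespace CfsgLib.OddProduct

open MulAction Subgroup

universe u v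

variable {G : Type u} [Group G]

/-- Two commuting distinct involutions in a subgroup. -/
def HasPair (X : Subgroup G) : Prop :=
  ∃ a b : G, a ∈ X ∧ b ∈ X ∧ orderOf a = 2 ∧ orderOf b = 2 ∧ a ≠ b ∧ a * b = b * a

theorem exists_invol_pow [Finite G] {x : G} (h : Even (orderOf x)) :
    orderOf (x ^ (orderOf x / 2)) = 2 := by
  obtain ⟨m, hm⟩ := h
  have hpos := orderOf_pos x
  refine CfsgLib.Invol.orderOf_eq_two ?_ ?_
  · intro h1
    have := Nat.le_of_dvd (by omega) (orderOf_dvd_of_pow_eq_one h1)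
    omega
  · rw [← pow_add, show orderOf x / 2 + orderOf x / 2 = orderOf x by omega, pow_orderOf_eq_one]

variable {Δ : Type v} [MulAction G Δ]

/-- The pointwise stabilizer of a pair. -/
def pairStab (γ δ : Δ) : Subgroup G := MulAction.stabilizer G γ ⊓ MulAction.stabilizer G δ

theorem mem_pairStab {γ δ : Δ} {g : G} :
    g ∈ pairStab (G := G) γ δ ↔ g • γ = γ ∧ g • δ = δ := Iff.rfl

theorem map_pairStab (g : G) (γ δ : Δ) :
    (pairStab (G := G) γ δ).map (MulAut.conj g).toMonoidHom = pairStab (g • γ) (g • δ) := by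
  rw [pairStab, Subgroup.map_inf _ _ _ (MulAut.conj g).injective,
    ← MulAction.stabilizer_smul_eq_stabilizer_map_conj, ← MulAction.stabilizer_smul_eq_stabilizer_map_conj]
  rfl

namespace Ctx

variable [Finite G] [Finite Δ] {S : Subgroup G} {α : Δ} (C : Ctx S α)
include C

theorem pair_transitive {γ δ γ' δ' : Δ} (h : γ ≠ δ) (h' : γ' ≠ δ') :
    ∃ g : G, g • γ = γ' ∧ g • δ = δ' := by
  obtain ⟨t, ht, hto⟩ := C.exists_invol
  have key : ∀ a b : Δ, a ≠ b → ∃ g : G, g • α = a ∧ g • t • α = b := by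
    intro a b hab
    obtain ⟨s, -, hs⟩ := C.regular a
    have hb : s⁻¹ • b ≠ α := fun e => hab (by rw [← hs, ← e, smul_inv_smul])
    obtain ⟨k, hk, ek⟩ := C.two_transitive ht hto hb
    exact ⟨s * k, by rw [mul_smul, mem_stabilizer_iff.1 hk, hs],
      by rw [mul_smul, ek, smul_inv_smul]⟩
  obtain ⟨g₁, a₁, b₁⟩ := key γ δ h
  obtain ⟨g₂, a₂, b₂⟩ := key γ' δ' h'
  exact ⟨g₂ * g₁⁻¹, by rw [mul_smul, ← a₁, inv_smul_smul, a₂],
    by rw [mul_smul, ← b₁, inv_smul_smul, b₂]⟩

theorem card_pairStab {γ δ γ' δ' : Δ} (h : γ ≠ δ) (h' : γ' ≠ δ') :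
    Nat.card (pairStab (G := G) γ δ) = Nat.card (pairStab (G := G) γ' δ') := by
  obtain ⟨g, rfl, rfl⟩ := C.pair_transitive h h'
  rw [← map_pairStab]
  exact Nat.card_congr (Subgroup.equivMapOfInjective _ _ (MulAut.conj g).injective).toEquiv

theorem odd_pairStab (γ δ : Δ) : Odd (Nat.card (pairStab (G := G) γ δ)) :=
  (C.stab_odd_any γ).of_dvd_nat (Subgroup.card_dvd_of_le inf_le_left)

/-- Witt's lemma. -/
theorem witt {p : ℕ} [Fact p.Prime] {P : Subgroup G} {γ δ γ' δ' : Δ} (h : γ ≠ δ) (h' : γ' ≠ δ')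
    (hP : P ≤ pairStab γ δ) (hP' : P ≤ pairStab γ' δ')
    (hcard : Nat.card P = p ^ (Nat.card (pairStab (G := G) γ δ)).factorization p) :
    ∃ g ∈ normalizer (P : Set G), g • γ = γ' ∧ g • δ = δ' := by
  obtain ⟨g, rfl, rfl⟩ := C.pair_transitive h h'
  set L := pairStab (G := G) (g • γ) (g • δ)
  have hPg : P.map (MulAut.conj g).toMonoidHom ≤ L := by
    rw [show L = (pairStab γ δ).map (MulAut.conj g).toMonoidHom from (map_pairStab g γ δ).symm]
    exact Subgroup.map_mono hP
  have hcL : ∀ Q : Subgroup G, Q ≤ L → Nat.card Q = Nat.card P →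
      Nat.card (Q.subgroupOf L) = p ^ (Nat.card L).factorization p := by
    intro Q hQ hQc
    rw [Nat.card_congr (subgroupOfEquivOfLe hQ).toEquiv, hQc, hcard, C.card_pairStab h h']
  let P₁ : Sylow p L := Sylow.ofCard (P.subgroupOf L) (hcL P hP' rfl)
  let P₂ : Sylow p L := Sylow.ofCard ((P.map (MulAut.conj g).toMonoidHom).subgroupOf L)
    (hcL _ hPg (Nat.card_congr (Subgroup.equivMapOfInjective _ _ (MulAut.conj g).injective).toEquiv.symm))
  obtain ⟨k, hk⟩ := MulAction.exists_smul_eq L P₂ P₁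
  refine ⟨(k : G) * g, ?_, ?_, ?_⟩
  · refine Subgroup.mem_normalizer_fintype fun x hx => ?_
    have hx' : g * x * g⁻¹ ∈ P.map (MulAut.conj g).toMonoidHom := ⟨x, hx, rfl⟩
    have h1 := Subgroup.smul_mem_pointwise_smul (⟨g * x * g⁻¹, hPg hx'⟩ : L) (MulAut.conj k)
      (P₂ : Subgroup L) (show (⟨g * x * g⁻¹, hPg hx'⟩ : L) ∈ (P₂ : Subgroup L) from
        mem_subgroupOf.2 hx')
    have h1' : (MulAut.conj k) • (⟨g * x * g⁻¹, hPg hx'⟩ : L) ∈ (P₁ : Subgroup L) := by
      rw [← hk]; exact h1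
    have h2 : (k : G) * (g * x * g⁻¹) * (k : G)⁻¹ ∈ P := mem_subgroupOf.1 h1'
    simpa [mul_assoc] using h2
  · rw [mul_smul]; exact (mem_pairStab.1 k.2).1
  · rw [mul_smul]; exact (mem_pairStab.1 k.2).2

/-- If commuting distinct involutions normalise an odd subgroup and one lies in `S`, the subgroup
normalises `S`. -/
theorem le_normalizer_of_four {W : Subgroup G} (hW : Odd (Nat.card W)) (hsol : Group.IsSolvable W) {a b : G} (ha : a ∈ S)
    (hao : orderOf a = 2) (hbo : orderOf b = 2) (hne : a ≠ b) (hab : a * b = b * a)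
    (haW : a ∈ normalizer (W : Set G)) (hbW : b ∈ normalizer (W : Set G)) :
    W ≤ normalizer (S : Set G) := by
  have ha2 := CfsgLib.Invol.mul_self_eq_one hao
  have hb2 := CfsgLib.Invol.mul_self_eq_one hbo
  have ha1 := CfsgLib.Invol.ne_one_of_invol hao
  have hbS : b ∈ S := C.mem_of_commute ha ha1 hbo hab.symm
  let V : Subgroup G := Subgroup.closure {a, b}
  have hVS : V ≤ S := (Subgroup.closure_le _).2 (by rintro x (rfl | rfl) <;> assumption)
  have hVW : V ≤ normalizer (W : Set G) :=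
    (Subgroup.closure_le _).2 (by rintro x (rfl | rfl) <;> assumption)
  have hVsq : ∀ x ∈ V, x * x = 1 := by
    intro x hx
    induction hx using Subgroup.closure_induction with
    | mem y hy => rcases hy with rfl | rfl <;> assumption
    | one => simp
    | mul x y hx hy ex ey =>
      have hc := C.comm x (hVS hx) y (hVS hy)
      calc x * y * (x * y) = x * (y * x) * y := by group
        _ = x * (x * y) * y := by rw [hc]
        _ = (x * x) * (y * y) := by group
        _ = 1 := by rw [ex, ey, mul_one]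
    | inv x _ ex => rw [← mul_inv_rev, ex, inv_one]
  have hE : Cfsg.IsElementaryAbelian 2 V :=
    ⟨IsMulCommutative.of_comm fun x y => Subtype.ext (C.comm x (hVS x.2) y (hVS y.2)),
      fun x hx => by rw [pow_two]; exact hVsq x hx⟩
  have haV : a ∈ V := Subgroup.subset_closure (Set.mem_insert _ _)
  have hbV : b ∈ V := Subgroup.subset_closure (Set.mem_insert_of_mem _ rfl)
  have hnc : ¬ IsCyclic V := fun h => hne (CfsgLib.Case.involution_eq_of_cyclic h haV hbV hao hbo)
  have hndvd : ¬ 2 ∣ Nat.card W := fun h => (Nat.not_even_iff_odd.2 hW) (even_iff_two_dvd.2 h)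
  have hcent : ∀ d ∈ V, d ≠ 1 → W ⊓ centralizer ({d} : Set G) ≤ normalizer (S : Set G) :=
    fun d hd hd1 => inf_le_right.trans (C.centralizer_le_normalizer' (hVS hd) hd1)
  haveI : Fact (Nat.Prime 2) := ⟨Nat.prime_two⟩
  rw [← CfsgLib.Signalizer.sup_centralizer_eq hE hndvd hVW haV]
  refine sup_le ((CfsgLib.Signalizer.commutator_le_iSup_centralizer hE le_rfl hnc haV hsol hndvd hVW).trans
    (iSup_le fun d => hcent _ d.2.1 fun h => d.2.2 (h ▸ one_mem _))) (hcent a haV ha1)

/-- A pair of commuting involutions gives one through any given involution. -/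
theorem exists_partner {X : Subgroup G} (hX : HasPair X) {x : G} (hx : x ∈ X)
    (hxo : orderOf x = 2) :
    ∃ b ∈ X, orderOf b = 2 ∧ x ≠ b ∧ x * b = b * x := by
  haveI : Fact (Nat.Prime 2) := ⟨Nat.prime_two⟩
  obtain ⟨a, b, ha, hb, hao, hbo, hne, hab⟩ := hX
  let V : Subgroup G := Subgroup.closure {a, b}
  have hVX : V ≤ X := (Subgroup.closure_le _).2 (by rintro y (rfl | rfl) <;> assumption)
  have hVp : IsPGroup 2 (V.subgroupOf X) := by
    refine IsPGroup.comap_of_injective (H := V) ?_ _ X.subtype_injective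
    have key : ∀ y ∈ V, y * y = 1 ∧ a * y = y * a ∧ b * y = y * b := by
      intro y hy
      induction hy using Subgroup.closure_induction with
      | mem z hz =>
        rcases hz with rfl | rfl
        · exact ⟨CfsgLib.Invol.mul_self_eq_one hao, rfl, hab.symm⟩
        · exact ⟨CfsgLib.Invol.mul_self_eq_one hbo, hab, rfl⟩
      | one => simp
      | mul y z hy hz ey ez =>
        have hc : y * z = z * y := by
          have hmem : z ∈ centralizer ({y} : Set G) := by
            refine (Subgroup.closure_le _).2 ?_ hz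
            rintro w (rfl | rfl)
            · exact mem_centralizer_singleton_iff.2 ey.2.1
            · exact mem_centralizer_singleton_iff.2 ey.2.2
          exact (mem_centralizer_singleton_iff.1 hmem).symm
        refine ⟨?_, ?_, ?_⟩
        · calc y * z * (y * z) = y * (z * y) * z := by group
            _ = y * (y * z) * z := by rw [hc]
            _ = (y * y) * (z * z) := by group
            _ = 1 := by rw [ey.1, ez.1, mul_one]
        · rw [← mul_assoc, ey.2.1, mul_assoc, ez.2.1, mul_assoc]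
        · rw [← mul_assoc, ey.2.2, mul_assoc, ez.2.2, mul_assoc]
      | inv y _ ey =>
        rw [inv_eq_of_mul_eq_one_right ey.1]
        exact ey
    intro y
    exact ⟨1, Subtype.ext (by rw [pow_one, pow_two]; exact (key y y.2).1)⟩
  obtain ⟨Q, hQ⟩ := hVp.exists_le_sylow
  have hxp : IsPGroup 2 (zpowers (⟨x, hx⟩ : X)) :=
    IsPGroup.of_card (n := 1) (by rw [Nat.card_zpowers, Subgroup.orderOf_mk, hxo, pow_one])
  obtain ⟨Q', hQ'⟩ := hxp.exists_le_sylow
  obtain ⟨g, hg⟩ := MulAction.exists_smul_eq X Q Q'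
  have hmem : ∀ y (hy : y ∈ X), y ∈ V →
      (g : G) * y * (g : G)⁻¹ ∈ (Q' : Subgroup X).map X.subtype := by
    intro y hy hyV
    refine ⟨g * ⟨y, hy⟩ * g⁻¹, ?_, rfl⟩
    rw [← hg]
    exact Subgroup.smul_mem_pointwise_smul _ (MulAut.conj g) _ (hQ (mem_subgroupOf.2 hyV))
  have hcomm := C.two_comm (Q'.2.map X.subtype)
  have hxQ : x ∈ (Q' : Subgroup X).map X.subtype := ⟨⟨x, hx⟩, hQ' (mem_zpowers _), rfl⟩
  have ha' := hmem a ha (Subgroup.subset_closure (Set.mem_insert _ _))
  have hb' := hmem b hb (Subgroup.subset_closure (Set.mem_insert_of_mem _ rfl))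
  rcases ne_or_eq x ((g : G) * a * (g : G)⁻¹) with h | h
  · exact ⟨_, mul_mem (mul_mem g.2 ha) (inv_mem g.2), by rw [CfsgLib.Invol.orderOf_conj, hao], h,
      hcomm _ hxQ _ ha'⟩
  · refine ⟨_, mul_mem (mul_mem g.2 hb) (inv_mem g.2), by rw [CfsgLib.Invol.orderOf_conj, hbo], ?_,
      hcomm _ hxQ _ hb'⟩
    rw [h]
    intro e
    exact hne (by simpa using e)

/-- A locally doubly transitive subgroup on at least three points has two commuting involutions. -/
theorem hasPair_of_twoTrans {X : Subgroup G} {F : Set Δ} (hinv : ∀ x ∈ X, ∀ δ ∈ F, x • δ ∈ F)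
    (hpt : ∀ γ₁ ∈ F, ∀ δ₁ ∈ F, ∀ δ₂ ∈ F, δ₁ ≠ γ₁ → δ₂ ≠ γ₁ → ∃ x ∈ X, x • γ₁ = γ₁ ∧ x • δ₁ = δ₂)
    {γ δ ε : Δ} (hγ : γ ∈ F) (hδ : δ ∈ F) (hε : ε ∈ F) (h1 : γ ≠ δ) (h2 : γ ≠ ε) (h3 : δ ≠ ε) :
    HasPair X := by
  classical
  by_contra hno
  haveI : Fact (Nat.Prime 2) := ⟨Nat.prime_two⟩
  have htr : ∀ a ∈ F, ∀ b ∈ F, ∃ x ∈ X, x • a = b := by
    intro a ha b hb
    by_cases hab : a = b
    · exact ⟨1, one_mem X, by rw [one_smul, hab]⟩
    · obtain ⟨c, hc, hca, hcb⟩ : ∃ c ∈ F, c ≠ a ∧ c ≠ b := by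
        by_cases hγa : γ = a
        · by_cases hδb : δ = b
          · exact ⟨ε, hε, fun e => h2 (hγa.trans e.symm), fun e => h3 (hδb.trans e.symm)⟩
          · exact ⟨δ, hδ, fun e => h1 (hγa.trans e.symm), hδb⟩
        · by_cases hγb : γ = b
          · by_cases hδa : δ = a
            · exact ⟨ε, hε, fun e => h3 (hδa.trans e.symm), fun e => h2 (hγb.trans e.symm)⟩
            · exact ⟨δ, hδ, hδa, fun e => h1 (hγb.trans e.symm)⟩
          · exact ⟨γ, hγ, hγa, hγb⟩
      obtain ⟨x, hx, -, e⟩ := hpt c hc a ha b hb (Ne.symm hca) (Ne.symm hcb)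
      exact ⟨x, hx, e⟩
  obtain ⟨x, hx, hxe⟩ := htr γ hγ δ hδ
  obtain ⟨y, hy, hy1, hy2⟩ := hpt δ hδ (x • δ) (hinv x hx δ hδ) γ hγ
    (fun e => h1 (MulAction.injective x (hxe.trans e.symm))) h1
  have hsw1 : (y * x) • γ = δ := by rw [mul_smul, hxe, hy1]
  have hsw2 : (y * x) • δ = γ := by rw [mul_smul, hy2]
  have hev : Even (orderOf (y * x)) := by
    rw [← Nat.not_odd_iff_even]
    rintro ⟨k, hk⟩
    have hpow : ∀ j : ℕ, ((y * x) ^ (2 * j)) • γ = γ := by
      intro j
      induction j with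
      | zero => simp
      | succ j ih => rw [Nat.mul_succ, pow_add, pow_two, mul_smul, mul_smul, hsw1, hsw2, ih]
    have := pow_orderOf_eq_one (y * x)
    rw [hk, pow_succ] at this
    have e := congrArg (fun g : G => g • δ) this
    simp only [mul_smul ((y * x) ^ (2 * k)), hsw2, hpow, one_smul] at e
    exact h1 e
  obtain ⟨z, hz, hzo⟩ : ∃ z ∈ X, orderOf z = 2 :=
    ⟨_, X.pow_mem (mul_mem hy hx) _, exists_invol_pow hev⟩
  obtain ⟨Q⟩ : Nonempty (Sylow 2 X) := inferInstance
  have hQc : ∀ a ∈ (Q : Subgroup X), ∀ b ∈ (Q : Subgroup X), a * b = b * a := fun a ha b hb =>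
    Subtype.ext (C.two_comm (Q.2.map X.subtype) _ ⟨a, ha, rfl⟩ _ ⟨b, hb, rfl⟩)
  have hcyc : IsCyclic (Q : Subgroup X) := by
    let instA : CommGroup (Q : Subgroup X) :=
      { (inferInstance : Group (Q : Subgroup X)) with
        mul_comm := fun a b => Subtype.ext (hQc a a.2 b b.2) }
    refine CfsgLib.Solvable.isCyclic_of_card_pow_prime_le fun q hq => ?_
    by_cases hq2 : q = 2
    · subst hq2
      by_cases hall : ∀ a ∈ (powMonoidHom 2 : (Q : Subgroup X) →* (Q : Subgroup X)).ker, a = 1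
      · rw [(Subgroup.eq_bot_iff_forall _).mpr hall, card_bot]; norm_num
      push Not at hall
      obtain ⟨a, ha, ha1⟩ := hall
      have hord : ∀ w : (Q : Subgroup X), w ^ 2 = 1 → w ≠ 1 → orderOf (((w : X) : G)) = 2 :=
        fun w hw hw1 => by
          rw [Subgroup.orderOf_coe, Subgroup.orderOf_coe]
          exact orderOf_eq_prime hw hw1
      have hle : (powMonoidHom 2 : (Q : Subgroup X) →* (Q : Subgroup X)).ker ≤ zpowers a := by
        intro w hw
        by_cases hw1 : w = 1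
        · rw [hw1]; exact one_mem _
        have : w = a := by
          by_contra hwa
          exact hno ⟨_, _, (w : X).2, (a : X).2, hord w hw hw1, hord a ha ha1,
            fun e => hwa (Subtype.ext (Subtype.ext e)),
            congrArg Subtype.val (hQc w w.2 a a.2)⟩
        rw [this]; exact mem_zpowers a
      exact (Subgroup.card_le_of_le hle).trans
        ((Nat.card_zpowers a).le.trans (Nat.le_of_dvd two_pos (orderOf_dvd_of_pow_eq_one ha)))
    · obtain ⟨m, hm⟩ := Q.2.exists_card_eq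
      have : (powMonoidHom q : (Q : Subgroup X) →* (Q : Subgroup X)).ker = ⊥ := by
        rw [eq_bot_iff]
        intro w hw
        have hco : (Nat.card (Q : Subgroup X)).Coprime q := by
          rw [hm]; exact Nat.Coprime.pow_left m ((Nat.coprime_primes Nat.prime_two hq).mpr (Ne.symm hq2))
        exact Subgroup.mem_bot.mpr ((powCoprime hco).injective ((show w ^ q = 1 from hw).trans (one_pow q).symm))
      rw [this, card_bot]
      exact hq.one_le
  obtain ⟨l, hl⟩ := CfsgLib.Case.index_oddCore_of_cyclic (Q : Subgroup X) Q.2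
    (Nat.not_even_iff_odd.1 fun h => Q.not_dvd_index (even_iff_two_dvd.1 h)) hcyc
  set O := Cfsg.pPrimeCore 2 X
  haveI hOn : O.Normal := CfsgLib.Solvable.pPrimeCore_normal 2 X
  have hOodd : Odd (Nat.card O) := Nat.coprime_two_right.1 (CfsgLib.Solvable.pPrimeCore_card_coprime 2 X)
  have hmemO : ∀ a : X, (a : G) • γ = γ → a ∈ O := by
    intro a ha
    rw [← QuotientGroup.eq_one_iff (N := O)]
    refine eq_one_of_two_of_odd ⟨l, ?_⟩ ?_
    · rw [← hl, Subgroup.index]; exact pow_card_eq_one'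
    · exact ((odd_orderOf_of_mem (C.stab_odd_any γ) (mem_stabilizer_iff.2 ha))).of_dvd_nat
        ((orderOf_map_dvd (QuotientGroup.mk' O) a).trans (by rw [Subgroup.orderOf_coe]))
  set O' : Subgroup G := O.map X.subtype with hO'
  have hO'odd : Odd (Nat.card O') := by
    rwa [hO', Nat.card_congr (O.equivMapOfInjective _ X.subtype_injective).toEquiv.symm]
  have hO'norm : ∀ a ∈ X, ∀ w ∈ O', a * w * a⁻¹ ∈ O' := by
    rintro a ha _ ⟨w, hw, rfl⟩
    exact ⟨_, hOn.conj_mem w hw ⟨a, ha⟩, rfl⟩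
  have hstabO : ∀ a ∈ X, a • γ = γ → a ∈ O' := fun a ha e => ⟨⟨a, ha⟩, hmemO ⟨a, ha⟩ e, rfl⟩
  by_cases hfix : ∀ w ∈ O', w • γ = γ
  · obtain ⟨a, ha, ha1, ha2⟩ := hpt γ hγ δ hδ ε hε (Ne.symm h1) (Ne.symm h2)
    refine h3 ?_
    rw [← ha2]
    obtain ⟨b, hb, hbe⟩ := htr δ hδ γ hγ
    have hw : b * a * b⁻¹ ∈ O' := hO'norm b hb a (hstabO a ha ha1)
    have := hfix _ hw
    rw [mul_smul, mul_smul, inv_smul_eq_iff.2 hbe.symm] at this
    exact (MulAction.injective b (hbe.trans this.symm))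
  · push Not at hfix
    obtain ⟨w, hw, hwne⟩ := hfix
    have hwX : w ∈ X := Subgroup.map_subtype_le O hw
    have horb : (fun g : G => g • γ) '' (O' : Set G) = F := by
      ext a
      constructor
      · rintro ⟨g, hg, rfl⟩
        exact hinv g (Subgroup.map_subtype_le O hg) γ hγ
      · intro ha
        by_cases haγ : a = γ
        · exact ⟨1, one_mem O', by rw [haγ]; exact one_smul G γ⟩
        · obtain ⟨b, hb, hb1, hb2⟩ := hpt γ hγ (w • γ) (hinv w hwX γ hγ) a ha hwne haγ
          exact ⟨b * w, mul_mem (hstabO b hb hb1) hw, by rw [← hb2]; exact mul_smul b w γ⟩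
    have hcard := card_eq_mul_image (fun g : G => g • γ) (H := O')
      (K := O' ⊓ MulAction.stabilizer G γ) inf_le_left (fun a ha b hb => by
        simp only [Subgroup.mem_inf, mem_stabilizer_iff]
        constructor
        · intro h
          exact ⟨mul_mem (inv_mem ha) hb, by rw [mul_smul, ← h, inv_smul_smul]⟩
        · rintro ⟨-, h⟩
          rw [mul_smul, inv_smul_eq_iff] at h
          exact h.symm)
    rw [horb] at hcard
    have hFodd : Odd F.ncard := hO'odd.of_dvd_nat ⟨_, hcard.trans (mul_comm _ _)⟩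
    have hdvd := card_dvd_of_free (zpowers z) F (fun k hk a ha => hinv k ((zpowers_le.2 hz) hk) a ha)
      (fun k hk a _ e => C.free ?_ e)
    · rw [Nat.card_zpowers, hzo] at hdvd
      exact (Nat.not_even_iff_odd.2 hFodd) (even_iff_two_dvd.2 hdvd)
    · obtain ⟨i, rfl⟩ := hk
      exact ⟨1, by rw [pow_one, ← zpow_natCast, ← zpow_mul, mul_comm, zpow_mul, zpow_natCast,
        ← hzo, pow_orderOf_eq_one, one_zpow]⟩

end Ctx

end CfsgLib.OddProduct
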