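import Cfsg.Agent.Lib.OddProduct.NonElementary

/-!
A finite group that is the product of an abelian 2-subgroup and a subgroup of odd order is solvable.
The solvability of groups of odd order enters as a hypothesis.
-/

set_option autoImplicit false
set_option linter.unusedSectionVars false
set_option linter.style.haveILetI false

namespace CfsgLib.OddProduct

open MulAction Subgroup

universe u

variable {G : Type u} [Group G]

theorem Prod2.quotient [Finite G] {S H : Subgroup G} (P : Prod2 S H) (N : Subgroup G) [N.Normal] :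
    Prod2 (S.map (QuotientGroup.mk' N)) (H.map (QuotientGroup.mk' N)) where
  two := P.two.map _
  comm := by
    rintro _ ⟨a, ha, rfl⟩ _ ⟨b, hb, rfl⟩
    rw [← map_mul, ← map_mul, P.comm a ha b hb]
  odd := P.odd.of_dvd_nat (Subgroup.card_map_dvd H _)
  mul := fun g => by
    obtain ⟨g, rfl⟩ := QuotientGroup.mk'_surjective N g
    obtain ⟨s, hs, h, hh, rfl⟩ := P.mul g
    exact ⟨_, ⟨s, hs, rfl⟩, _, ⟨h, hh, rfl⟩, map_mul _ _ _⟩

theorem Prod2.normal [Finite G] {S H : Subgroup G} (P : Prod2 S H) (N : Subgroup G) [N.Normal] :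
    Prod2 (S.subgroupOf N) (H.subgroupOf N) where
  two := P.two.comap_of_injective _ N.subtype_injective
  comm := fun a ha b hb => Subtype.ext (P.comm _ (mem_subgroupOf.1 ha) _ (mem_subgroupOf.1 hb))
  odd := P.odd.of_dvd_nat (Subgroup.card_comap_dvd_of_injective H N.subtype N.subtype_injective)
  mul := fun g => by
    obtain ⟨s, hs, h, hh, e⟩ := P.mul (g : G)
    have hs1 : QuotientGroup.mk' N s = 1 := by
      refine eq_one_of_mem_mem ((P.quotient N).two) (P.quotient N).odd ⟨s, hs, rfl⟩ ⟨h⁻¹, inv_mem hh, ?_⟩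
      have : QuotientGroup.mk' N (g : G) = 1 := (QuotientGroup.eq_one_iff _).2 g.2
      rw [e, map_mul] at this
      rw [map_inv]
      exact inv_eq_of_mul_eq_one_left this
    have hsN : s ∈ N := (QuotientGroup.eq_one_iff s).1 hs1
    have hhN : h ∈ N := by
      have : h = s⁻¹ * g := by rw [e, inv_mul_cancel_left]
      rw [this]; exact mul_mem (inv_mem hsN) g.2
    exact ⟨⟨s, hsN⟩, mem_subgroupOf.2 hs, ⟨h, hhN⟩, mem_subgroupOf.2 hh, Subtype.ext e⟩

theorem ctx_of_prod2 [Finite G] (hsimp : IsSimpleGroup G) (hns : ¬ Group.IsSolvable G)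
    {S H : Subgroup G} (P : Prod2 S H)
    (hFT : ∀ (K : Type u) [Group K] [Finite K], Odd (Nat.card K) → Group.IsSolvable K)
    (ih : ∀ X : Subgroup G, X ≠ ⊤ → ∀ S₁ H₁ : Subgroup ↥X, Prod2 S₁ H₁ → Group.IsSolvable ↥X) :
    Ctx S ((1 : G) : G ⧸ H) := by
  have hHtop : H ≠ ⊤ := by
    rintro rfl
    exact hns (hFT G (by rw [← Subgroup.card_top (G := G)]; exact P.odd))
  have hcore : H.normalCore = ⊥ :=
    (hsimp.eq_bot_or_eq_top_of_normal H.normalCore inferInstance).resolve_right
      fun h => hHtop (top_le_iff.1 (h ▸ H.normalCore_le))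
  have hreg : ∀ δ : G ⧸ H, ∃ s ∈ S, s • ((1 : G) : G ⧸ H) = δ := by
    intro δ
    induction δ using QuotientGroup.induction_on with
    | H g =>
      obtain ⟨s, hs, h, hh, rfl⟩ := P.mul g
      refine ⟨s, hs, ?_⟩
      show ((s * 1 : G) : G ⧸ H) = _
      exact QuotientGroup.eq.2 (by simpa using hh)
  refine
    { simple := hsimp
      nsolv := hns
      ih := ih
      two := P.two
      comm := P.comm
      sylow := ?_
      regular := hreg
      stab_odd := by rw [MulAction.stabilizer_quotient]; exact P.odd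
      max := ?_
      faithful := ?_ }
  · refine P.odd.of_dvd_nat ?_
    rw [Subgroup.index]
    have h1 := card_eq_mul_image (fun g : G => ((g⁻¹ : G) : G ⧸ S)) (H := H) (K := H ⊓ (⊥ : Subgroup G))
      inf_le_left (fun a ha b hb => by
        rw [inf_bot_eq, Subgroup.mem_bot, QuotientGroup.eq, inv_inv]
        constructor
        · intro h
          have h1 : a * b⁻¹ = 1 := eq_one_of_mem_mem P.two P.odd h (mul_mem ha (inv_mem hb))
          rw [mul_inv_eq_one] at h1
          rw [h1, inv_mul_cancel]
        · intro h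
          rw [inv_mul_eq_one] at h
          rw [h, mul_inv_cancel]
          exact one_mem S)
    have himg : (fun g : G => ((g⁻¹ : G) : G ⧸ S)) '' (H : Set G) = Set.univ := by
      ext ω
      simp only [Set.mem_univ, iff_true]
      induction ω using QuotientGroup.induction_on with
      | H g =>
        obtain ⟨s, hs, h, hh, e⟩ := P.mul g⁻¹
        refine ⟨h, hh, QuotientGroup.eq.2 ?_⟩
        rw [inv_inv]
        have hg : g = h⁻¹ * s⁻¹ := by rw [← mul_inv_rev, ← e, inv_inv]
        rw [hg, mul_inv_cancel_left]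
        exact inv_mem hs
    rw [himg, Set.ncard_univ, inf_bot_eq, Subgroup.card_bot, one_mul] at h1
    rw [h1]
  · intro M hM
    rw [MulAction.stabilizer_quotient] at hM ⊢
    by_cases hMtop : M = ⊤
    · exact Or.inr hMtop
    left
    refine le_antisymm (fun m hm => ?_) hM
    obtain ⟨s, hs, h, hh, rfl⟩ := P.mul m
    have hsM : s ∈ M := by
      have := mul_mem hm (inv_mem (hM hh))
      rwa [mul_inv_cancel_right] at this
    have hscore : s ∈ M.normalCore := by
      intro g
      obtain ⟨a, ha, k, hk, e⟩ := P.mul g⁻¹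
      have hg : g = k⁻¹ * a⁻¹ := by rw [← mul_inv_rev, ← e, inv_inv]
      rw [hg]
      have : k⁻¹ * a⁻¹ * s * (k⁻¹ * a⁻¹)⁻¹ = k⁻¹ * s * k := by
        calc k⁻¹ * a⁻¹ * s * (k⁻¹ * a⁻¹)⁻¹ = k⁻¹ * (a⁻¹ * (s * a)) * k := by group
          _ = k⁻¹ * (a⁻¹ * (a * s)) * k := by rw [P.comm s hs a ha]
          _ = _ := by group
      rw [this]
      exact mul_mem (mul_mem (inv_mem (hM hk)) hsM) (hM hk)
    rcases hsimp.eq_bot_or_eq_top_of_normal M.normalCore inferInstance with h' | h'
    · rw [h', Subgroup.mem_bot] at hscore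
      rw [hscore, one_mul]; exact hh
    · exact absurd (top_le_iff.1 (h' ▸ M.normalCore_le)) hMtop
  · intro g hg
    refine Subgroup.mem_bot.1 (hcore ▸ ?_)
    rw [Subgroup.normalCore_eq_ker]
    exact Equiv.ext fun δ => hg δ

/-- A product of an abelian 2-subgroup and a subgroup of odd order is solvable, given the odd
order theorem. -/
theorem solvable_of_prod2 (hFT : ∀ (K : Type u) [Group K] [Finite K], Odd (Nat.card K) → Group.IsSolvable K)
    [Finite G] {S H : Subgroup G} (P : Prod2 S H) : Group.IsSolvable G := by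
  suffices key : ∀ (n : ℕ) (G : Type u) [Group G] [Finite G], Nat.card G = n →
      ∀ S H : Subgroup G, Prod2 S H → Group.IsSolvable G from key _ G rfl S H P
  clear P S H
  intro n
  induction n using Nat.strong_induction_on with
  | _ n ih =>
    intro G _ _ hn S H P
    by_contra hns
    have hsub : ∀ X : Subgroup G, X ≠ ⊤ → ∀ S₁ H₁ : Subgroup ↥X, Prod2 S₁ H₁ → Group.IsSolvable ↥X :=
      fun X hX S₁ H₁ P₁ => ih (Nat.card X) (hn ▸ lt_of_le_of_ne
        (Nat.le_of_dvd Nat.card_pos X.card_subgroup_dvd_card) (fun h => hX (X.eq_top_of_card_eq h)))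
        X rfl S₁ H₁ P₁
    haveI : Nontrivial G := by
      by_contra h
      rw [not_nontrivial_iff_subsingleton] at h
      exact hns (Group.isSolvable_of_comm fun a b => Subsingleton.elim _ _)
    have hsimp : IsSimpleGroup G := by
      refine ⟨fun N hN => ?_⟩
      by_contra hne
      rw [not_or] at hne
      haveI := hN
      haveI := hsub N hne.2 _ _ (P.normal N)
      have hlt : Nat.card (G ⧸ N) < n := by
        rw [← hn, Subgroup.card_eq_card_quotient_mul_card_subgroup N]
        exact lt_mul_of_one_lt_right Nat.card_pos ((Subgroup.one_lt_card_iff_ne_bot N).2 hne.1)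
      haveI := ih _ hlt (G ⧸ N) rfl _ _ (P.quotient N)
      exact hns (Group.isSolvable_of_ker_le_range N.subtype (QuotientGroup.mk' N)
        (by rw [QuotientGroup.ker_mk', Subgroup.range_subtype]))
    have C := ctx_of_prod2 hsimp hns P hFT hsub
    by_cases hel : ∀ x ∈ S, x * x = 1
    · exact C.not_elementary (hFT _ C.stab_odd) hel
    · push Not at hel
      exact C.not_nonelementary hel

end CfsgLib.OddProduct
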