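import Cfsg.Agent.Lib.OddProduct.Main
import Cfsg.Agent.Lib.FGStruct.PPowerClass
import Cfsg.Agent.Lib.Schur.Sylow

/-!
Finite groups with abelian Sylow subgroups having a class whose size is the maximal 2-part of all
class sizes are solvable, given the odd order theorem.
-/

set_option autoImplicit false
set_option linter.unusedSectionVars false
set_option linter.style.haveILetI false

namespace CfsgLib.OddProduct

open Subgroup

universe u

variable {G : Type u} [Group G] [Finite G]

/-- A central element of the commutator subgroup is trivial when all Sylow subgroups are abelian. -/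
theorem eq_one_of_central_commutator
    (hA : ∀ (p : ℕ) [Fact p.Prime] (P : Sylow p G), ∀ a ∈ (P : Subgroup G), ∀ b ∈ (P : Subgroup G), a * b = b * a)
    {z : G} (hzc : z ∈ Subgroup.center G) (hzd : z ∈ _root_.commutator G) : z = 1 := by
  by_contra hz1
  obtain ⟨p, hp, hpd⟩ := Nat.exists_prime_and_dvd (fun h => hz1 (orderOf_eq_one_iff.1 h))
  haveI := Fact.mk hp
  have hy : orderOf (z ^ (orderOf z / p)) = p := orderOf_pow_orderOf_div (orderOf_pos z).ne' hpd
  obtain ⟨P⟩ : Nonempty (Sylow p G) := inferInstance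
  have hyc := pow_mem hzc (orderOf z / p)
  have hyP := CfsgLib.SchurSylow.center_pElement_mem_sylow P hyc (k := 1)
    (by
      have := pow_orderOf_eq_one (z ^ (orderOf z / p))
      rw [hy] at this
      simpa using this)
  have h := CfsgLib.SchurSylow.center_inf_commutator_inf_sylow_le P hyc
    (pow_mem hzd (orderOf z / p)) hyP
  have hbot : _root_.commutator (P : Subgroup G) = ⊥ := by
    rw [_root_.commutator_def, Subgroup.commutator_eq_bot_iff_le_centralizer]
    intro a _
    exact mem_centralizer_iff.2 fun b _ => Subtype.ext (hA p P b b.2 a a.2)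
  rw [hbot, Subgroup.map_bot, Subgroup.mem_bot] at h
  rw [h, orderOf_one] at hy
  exact hp.one_lt.ne hy

/-- An odd index subgroup contains a conjugate of a Sylow 2-subgroup of a normal subgroup. -/
theorem exists_sylow_le (D L : Subgroup G) [D.Normal] (hL : Odd L.index) :
    ∃ Q : Sylow 2 D, (Q : Subgroup D).map D.subtype ≤ L := by
  haveI : Fact (Nat.Prime 2) := ⟨Nat.prime_two⟩
  obtain ⟨QL⟩ : Nonempty (Sylow 2 L) := inferInstance
  have hcard : Nat.card ((QL : Subgroup L).map L.subtype) = 2 ^ (Nat.card G).factorization 2 := by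
    rw [Nat.card_congr ((QL : Subgroup L).equivMapOfInjective _ L.subtype_injective).toEquiv.symm,
      QL.card_eq_multiplicity]
    congr 1
    rw [← L.card_mul_index, Nat.factorization_mul Nat.card_pos.ne' Subgroup.index_ne_zero_of_finite,
      Finsupp.add_apply, Nat.factorization_eq_zero_of_not_dvd (n := L.index)
        (fun h => (Nat.not_even_iff_odd.2 hL) (even_iff_two_dvd.2 h)), add_zero]
  let Q₀ : Sylow 2 G := Sylow.ofCard _ hcard
  obtain ⟨R⟩ : Nonempty (Sylow 2 D) := inferInstance
  obtain ⟨Q₁, hQ₁⟩ := ((R.2.map D.subtype) : IsPGroup 2 ((R : Subgroup D).map D.subtype)).exists_le_sylow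
  obtain ⟨g, hg⟩ := MulAction.exists_smul_eq G Q₁ Q₀
  let φ : MulAut D := MulAut.conjNormal g
  refine ⟨φ • R, ?_⟩
  rintro _ ⟨r, hr, rfl⟩
  obtain ⟨r', hr', rfl⟩ : ∃ r' ∈ (R : Subgroup D), φ r' = r := by
    rw [SetLike.mem_coe, Sylow.pointwise_smul_def] at hr
    obtain ⟨r', hr', e⟩ := hr
    exact ⟨r', hr', e⟩
  refine Subgroup.map_subtype_le (QL : Subgroup L) ?_
  show _ ∈ (Q₀ : Subgroup G)
  rw [← hg, Sylow.coe_subgroup_smul]
  have := Subgroup.smul_mem_pointwise_smul (r' : G) (MulAut.conj g) (Q₁ : Subgroup G) (hQ₁ ⟨r', hr', rfl⟩)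
  simpa [φ, MulAut.conjNormal_apply] using this

/-- A group in which every element centralises a Sylow 2-subgroup, given the odd order theorem. -/
theorem solvable_of_forall_centralizes
    (hFT : ∀ (K : Type u) [Group K] [Finite K], Odd (Nat.card K) → Group.IsSolvable K)
    (h : ∀ t : G, ∃ Q : Sylow 2 G, ∀ q ∈ (Q : Subgroup G), t * q = q * t) : Group.IsSolvable G := by
  haveI : Fact (Nat.Prime 2) := ⟨Nat.prime_two⟩
  obtain ⟨Q₀⟩ : Nonempty (Sylow 2 G) := inferInstance
  have htop : centralizer ((Q₀ : Subgroup G) : Set G) = ⊤ := by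
    refine CfsgLib.FGStruct.PPowerClass.eq_top_of_conj_cover _ fun t => ?_
    obtain ⟨Q, hQ⟩ := h t
    obtain ⟨c, hc⟩ := MulAction.exists_smul_eq G Q₀ Q
    refine ⟨c, mem_centralizer_iff.2 fun q hq => ?_⟩
    have hcq : c * q * c⁻¹ ∈ (Q : Subgroup G) := by
      rw [← hc]
      exact Subgroup.smul_mem_pointwise_smul q (MulAut.conj c) _ hq
    have e := hQ _ hcq
    calc q * (c⁻¹ * t * c) = c⁻¹ * (c * q * c⁻¹ * t) * c := by group
      _ = c⁻¹ * (t * (c * q * c⁻¹)) * c := by rw [e]
      _ = c⁻¹ * t * c * q := by group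
  have hle : (Q₀ : Subgroup G) ≤ Subgroup.center G := fun q hq => Subgroup.mem_center_iff.2 fun g => by
    exact (mem_centralizer_iff.1 (htop ▸ Subgroup.mem_top g : g ∈ centralizer _) q hq).symm
  haveI hn : (Q₀ : Subgroup G).Normal :=
    ⟨fun q hq g => by rw [Subgroup.mem_center_iff.1 (hle hq) g, mul_inv_cancel_right]; exact hq⟩
  haveI : Group.IsSolvable (G ⧸ (Q₀ : Subgroup G)) := hFT _ (by
    rw [← Subgroup.index, ← Nat.not_even_iff_odd, even_iff_two_dvd]
    exact Q₀.not_dvd_index)
  haveI : Group.IsSolvable (Q₀ : Subgroup G) := Group.isSolvable_of_comm fun a b =>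
    Subtype.ext (Subgroup.mem_center_iff.1 (hle b.2) (a : G))
  exact Group.isSolvable_of_ker_le_range (Q₀ : Subgroup G).subtype (QuotientGroup.mk' (Q₀ : Subgroup G))
    (by rw [QuotientGroup.ker_mk', Subgroup.range_subtype])

/-- The solvability theorem. -/
theorem solvable_of_max_class
    (hFT : ∀ (K : Type u) [Group K] [Finite K], Odd (Nat.card K) → Group.IsSolvable K)
    (hA : ∀ (p : ℕ) [Fact p.Prime] (P : Sylow p G), ∀ a ∈ (P : Subgroup G), ∀ b ∈ (P : Subgroup G), a * b = b * a)
    {a : ℕ} (hmax : ∀ y : G, ¬ 2 ^ (a + 1) ∣ (centralizer ({y} : Set G)).index) {x : G}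
    (hx : (centralizer ({x} : Set G)).index = 2 ^ a) : Group.IsSolvable G := by
  haveI : Fact (Nat.Prime 2) := ⟨Nat.prime_two⟩
  set C := centralizer ({x} : Set G) with hC
  set K := C.normalCore with hK
  haveI hKn : K.Normal := Subgroup.normalCore_normal C
  -- the derived subgroup of the core
  set D := _root_.commutator ↥K with hD
  have hzero : ∀ z : K, z ∈ D → (∀ k : K, (z : G) * k = k * z) → z = 1 := fun z hz hc =>
    eq_one_of_central_commutator (fun p _ P a ha b hb => by
      obtain ⟨Q, hQ⟩ := (P.2.map K.subtype).exists_le_sylow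
      exact Subtype.ext (hA p Q _ (hQ ⟨a, ha, rfl⟩) _ (hQ ⟨b, hb, rfl⟩)))
      (Subgroup.mem_center_iff.2 fun k => Subtype.ext (hc k).symm) hz
  set D' : Subgroup G := D.map K.subtype with hD'
  haveI hD'n : D'.Normal := by
    rw [hD', hD, _root_.commutator_def, Subgroup.map_commutator, ← MonoidHom.range_eq_map, Subgroup.range_subtype]
    infer_instance
  have hD'K : D' ≤ K := Subgroup.map_subtype_le _
  have hD'C : D' ≤ C := hD'K.trans C.normalCore_le
  have hDsol : Group.IsSolvable D' := by
    refine solvable_of_forall_centralizes hFT fun t => ?_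
    set L := centralizer ({x * (t : G)} : Set G) with hL
    have hLle : ∀ g ∈ L, g ∈ C ∧ g * t = t * g := by
      intro g hg
      have e : g * (x * t) = x * t * g := mem_centralizer_singleton_iff.1 hg
      have hgt : g * t * g⁻¹ ∈ D' := hD'n.conj_mem t t.2 g
      have hz : x⁻¹ * (g * x * g⁻¹) = (t : G) * (g * t * g⁻¹)⁻¹ := by
        have e' : g * x * g⁻¹ * (g * t * g⁻¹) = x * t := by
          calc g * x * g⁻¹ * (g * t * g⁻¹) = g * (x * t) * g⁻¹ := by group
            _ = x * t := by rw [e, mul_inv_cancel_right]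
        rw [eq_mul_inv_of_mul_eq e']
        group
      have hzD : x⁻¹ * (g * x * g⁻¹) ∈ D' := by rw [hz]; exact mul_mem t.2 (inv_mem hgt)
      obtain ⟨z, hz1, hz2⟩ := hzD
      have hzeq : z = 1 := hzero z hz1 fun k => by
        show (K.subtype z) * (k : G) = (k : G) * K.subtype z
        rw [hz2]
        have hk1 : (k : G) * x = x * k := mem_centralizer_singleton_iff.1 (C.normalCore_le k.2)
        have hk2 : (g⁻¹ * k * g) * x = x * (g⁻¹ * k * g) :=
          mem_centralizer_singleton_iff.1 (C.normalCore_le (by simpa using hKn.conj_mem k k.2 g⁻¹))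
        have hk2' : Commute (k : G) (g * x * g⁻¹) := by
          show (k : G) * (g * x * g⁻¹) = g * x * g⁻¹ * k
          calc (k : G) * (g * x * g⁻¹) = g * ((g⁻¹ * k * g) * x) * g⁻¹ := by group
            _ = g * (x * (g⁻¹ * k * g)) * g⁻¹ := by rw [hk2]
            _ = g * x * g⁻¹ * k := by group
        exact ((Commute.inv_right (show Commute (k : G) x from hk1)).mul_right hk2').eq.symm
      rw [hzeq, map_one] at hz2
      have hgx : g * x = x * g := by
        have := inv_mul_eq_one.1 hz2.symm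
        calc g * x = g * x * g⁻¹ * g := by group
          _ = x * g := by rw [← this]
      refine ⟨mem_centralizer_singleton_iff.2 hgx, ?_⟩
      refine mul_left_cancel (a := x) ?_
      calc x * (g * t) = g * (x * t) := by rw [← mul_assoc, ← hgx, mul_assoc]
        _ = x * t * g := e
        _ = x * (t * g) := mul_assoc x (t : G) g
    have hLC : L ≤ C := fun g hg => (hLle g hg).1
    have hodd : Odd (L.subgroupOf C).index := by
      rw [← Nat.not_even_iff_odd, even_iff_two_dvd]
      intro h2
      refine hmax (x * t) ?_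
      rw [← hL, ← Subgroup.relIndex_mul_index hLC, hx, pow_succ']
      exact Nat.mul_dvd_mul h2 dvd_rfl
    haveI : (D'.subgroupOf C).Normal := hD'n.subgroupOf C
    obtain ⟨Q, hQ⟩ := exists_sylow_le (D'.subgroupOf C) (L.subgroupOf C) hodd
    let e := subgroupOfEquivOfLe hD'C
    refine ⟨Q.mapSurjective (f := e.toMonoidHom) e.surjective, ?_⟩
    rintro _ ⟨q, hq, rfl⟩
    have hmem : (((q : C) : G)) ∈ L := mem_subgroupOf.1 (hQ ⟨q, hq, rfl⟩)
    exact Subtype.ext (hLle _ hmem).2.symm
  haveI : Group.IsSolvable D := by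
    haveI := hDsol
    exact Group.isSolvable_of_surjective (f := (D.equivMapOfInjective K.subtype K.subtype_injective).symm.toMonoidHom)
      (D.equivMapOfInjective K.subtype K.subtype_injective).symm.surjective
  haveI hKsol : Group.IsSolvable K := Group.isSolvable_of_ker_le_range D.subtype
    (Abelianization.of : K →* Abelianization K) (by rw [Abelianization.ker_of, Subgroup.range_subtype])
  -- the action on the class
  obtain ⟨QC⟩ : Nonempty (Sylow 2 C) := inferInstance
  obtain ⟨S, hS⟩ := (QC.2.map C.subtype).exists_le_sylow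
  have hab := hA 2 S
  have hdec : ∀ g : G, ∃ s ∈ (S : Subgroup G), ∃ c ∈ C, g = s * c := fun g =>
    CfsgLib.FGStruct.PPowerClass.exists_mul_of_index_eq_pow C hx S g
  have hSC : ∀ s ∈ (S : Subgroup G), s ∈ C → s ∈ K := by
    intro s hs hsC g
    obtain ⟨b, hb, c, hc, e⟩ := hdec g⁻¹
    have hg : g = c⁻¹ * b⁻¹ := by rw [← mul_inv_rev, ← e, inv_inv]
    rw [hg]
    have : c⁻¹ * b⁻¹ * s * (c⁻¹ * b⁻¹)⁻¹ = c⁻¹ * s * c := by
      calc c⁻¹ * b⁻¹ * s * (c⁻¹ * b⁻¹)⁻¹ = c⁻¹ * (b⁻¹ * (s * b)) * c := by group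
        _ = c⁻¹ * (b⁻¹ * (b * s)) * c := by rw [hab s hs b hb]
        _ = _ := by group
    rw [this]
    exact mul_mem (mul_mem (inv_mem hc) hsC) hc
  haveI : Group.IsSolvable (G ⧸ K) := by
    refine solvable_of_prod2 hFT (S := (S : Subgroup G).map (QuotientGroup.mk' K))
      (H := C.map (QuotientGroup.mk' K)) ⟨S.2.map _, ?_, ?_, ?_⟩
    · rintro _ ⟨u, hu, rfl⟩ _ ⟨w, hw, rfl⟩
      rw [← map_mul, ← map_mul, hab u hu w hw]
    · have hQK : (QC : Subgroup C) ≤ K.subgroupOf C := fun q hq =>
        mem_subgroupOf.2 (hSC _ (hS ⟨q, hq, rfl⟩) q.2)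
      have hodd : Odd (K.subgroupOf C).index := by
        rw [← Nat.not_even_iff_odd, even_iff_two_dvd]
        exact fun h => QC.not_dvd_index (h.trans (Subgroup.index_dvd_of_le hQK))
      refine hodd.of_dvd_nat ?_
      let f : C →* G ⧸ K := (QuotientGroup.mk' K).comp C.subtype
      have hker : f.ker = K.subgroupOf C := by
        rw [← MonoidHom.comap_ker, QuotientGroup.ker_mk']; rfl
      have hrange : f.range = C.map (QuotientGroup.mk' K) := by
        rw [MonoidHom.range_comp, Subgroup.range_subtype]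
      rw [← hker, Subgroup.index_ker, hrange]
    · intro g
      obtain ⟨g, rfl⟩ := QuotientGroup.mk'_surjective K g
      obtain ⟨s, hs, c, hc, rfl⟩ := hdec g
      exact ⟨_, ⟨s, hs, rfl⟩, _, ⟨c, hc, rfl⟩, map_mul _ _ _⟩
  exact Group.isSolvable_of_ker_le_range K.subtype (QuotientGroup.mk' K)
    (by rw [QuotientGroup.ker_mk', Subgroup.range_subtype])

end CfsgLib.OddProduct
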