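import Cfsg.Agent.Lib.OddProduct.Elementary

/-!
The regular subgroup is elementary abelian: otherwise the two point stabilizer is semiregular on
the remaining points and too large.
-/

set_option autoImplicit false
set_option linter.unusedSectionVars false
set_option linter.style.haveILetI false

namespace CfsgLib.OddProduct

open MulAction Subgroup

universe u v

variable {G : Type u} [Group G] {Δ : Type v} [MulAction G Δ]

namespace Ctx

variable [Finite G] [Finite Δ] {S : Subgroup G} {α : Δ} (C : Ctx S α)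
include C

theorem invol_is_square (hne : ∃ w ∈ S, w * w ≠ 1) {a : G} (ha : a ∈ S) (hao : orderOf a = 2) :
    ∃ y ∈ S, y * y = a := by
  obtain ⟨w, hw, hw2⟩ := hne
  obtain ⟨k, hk⟩ := exists_two_pow C.two hw
  obtain ⟨j, -, hj⟩ := (Nat.dvd_prime_pow Nat.prime_two).1 (orderOf_dvd_of_pow_eq_one hk)
  rcases j with _ | _ | j
  · have hw1 : w = 1 := orderOf_eq_one_iff.1 (by rw [hj, pow_zero])
    exact absurd (show w * w = 1 by rw [hw1, one_mul]) hw2
  · exact absurd (CfsgLib.Invol.mul_self_eq_one (x := w) (by rw [hj]; norm_num)) hw2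
  · have hzo : orderOf (w ^ 2 ^ (j + 1)) = 2 := by
      rw [orderOf_pow' w (by positivity), hj, Nat.gcd_eq_right (pow_dvd_pow 2 (Nat.le_succ _)),
        Nat.pow_div (Nat.le_succ _) two_pos]
      simp
    obtain ⟨b, -, hbN, e⟩ := C.conj_invol (pow_mem hw (2 ^ (j + 1))) hzo ha hao
    refine ⟨b * w ^ 2 ^ j * b⁻¹, (mem_normalizer_iff.1 hbN _).1 (pow_mem hw _), ?_⟩
    rw [← e, show 2 ^ (j + 1) = 2 ^ j + 2 ^ j by rw [pow_succ]; ring, pow_add]
    group

/-- An odd `p`-group normalising `S` and centralising an involution of `S` centralises one of its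
square roots. -/
theorem exists_fixed_root (hne : ∃ w ∈ S, w * w ≠ 1) {p : ℕ} [Fact p.Prime] (hp : p ≠ 2)
    {P : Subgroup G} (hP : IsPGroup p P) (hPN : P ≤ normalizer (S : Set G)) {a : G} (ha : a ∈ S)
    (hao : orderOf a = 2) (hc : ∀ x ∈ P, x * a = a * x) :
    ∃ y ∈ S, y * y = a ∧ ∀ x ∈ P, x * y = y * x := by
  obtain ⟨y₀, hy₀, hy₀a⟩ := C.invol_is_square hne ha hao
  letI act : MulAction P {y : G // y ∈ S ∧ y * y = a} :=
    { smul := fun x y => ⟨(x : G) * y.1 * (x : G)⁻¹, (mem_normalizer_iff.1 (hPN x.2) _).1 y.2.1, by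
        calc (x : G) * y.1 * (x : G)⁻¹ * ((x : G) * y.1 * (x : G)⁻¹)
            = x * (y.1 * y.1) * (x : G)⁻¹ := by group
          _ = a := by rw [y.2.2, hc x x.2, mul_inv_cancel_right]⟩
      one_smul := fun y => Subtype.ext (show (1 : G) * y.1 * (1 : G)⁻¹ = y.1 by group)
      mul_smul := fun x z y => Subtype.ext (show ((x : G) * z) * y.1 * ((x : G) * z)⁻¹ =
        x * ((z : G) * y.1 * (z : G)⁻¹) * (x : G)⁻¹ by group) }
  let Ω : Subgroup G :=
    { carrier := {x | x ∈ S ∧ x * x = 1}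
      one_mem' := ⟨one_mem S, one_mul 1⟩
      mul_mem' := fun {x z} hx hz => ⟨mul_mem hx.1 hz.1, by
        calc x * z * (x * z) = x * (z * x) * z := by group
          _ = x * (x * z) * z := by rw [C.comm z hz.1 x hx.1]
          _ = (x * x) * (z * z) := by group
          _ = 1 := by rw [hx.2, hz.2, mul_one]⟩
      inv_mem' := fun {x} hx => ⟨inv_mem hx.1, by rw [← mul_inv_rev, hx.2, inv_one]⟩ }
  have hcard : Nat.card {y : G // y ∈ S ∧ y * y = a} = Nat.card Ω := by
    refine Nat.card_congr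
      { toFun := fun y => ⟨y₀⁻¹ * y.1, mul_mem (inv_mem hy₀) y.2.1, by
          calc y₀⁻¹ * y.1 * (y₀⁻¹ * y.1) = y₀⁻¹ * (y.1 * y₀⁻¹) * y.1 := by group
            _ = y₀⁻¹ * (y₀⁻¹ * y.1) * y.1 := by rw [C.comm y.1 y.2.1 y₀⁻¹ (inv_mem hy₀)]
            _ = (y₀ * y₀)⁻¹ * (y.1 * y.1) := by group
            _ = 1 := by rw [hy₀a, y.2.2, inv_mul_cancel]⟩
        invFun := fun x => ⟨y₀ * (x : G), mul_mem hy₀ x.2.1, by
          calc y₀ * (x : G) * (y₀ * x) = y₀ * ((x : G) * y₀) * x := by group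
            _ = y₀ * (y₀ * x) * x := by rw [C.comm x x.2.1 y₀ hy₀]
            _ = (y₀ * y₀) * ((x : G) * x) := by group
            _ = a := by rw [hy₀a, x.2.2, mul_one]⟩
        left_inv := fun y => Subtype.ext (mul_inv_cancel_left y₀ y.1)
        right_inv := fun x => Subtype.ext (inv_mul_cancel_left y₀ (x : G)) }
  have hnd : ¬ p ∣ Nat.card {y : G // y ∈ S ∧ y * y = a} := by
    obtain ⟨n, hn⟩ := C.two.exists_card_eq
    intro h
    rw [hcard] at h
    have := (h.trans (Subgroup.card_dvd_of_le (show Ω ≤ S from fun x hx => hx.1)))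
    rw [hn] at this
    exact hp ((Nat.prime_dvd_prime_iff_eq Fact.out Nat.prime_two).1
      ((Fact.out : p.Prime).dvd_of_dvd_pow this))
  obtain ⟨y, hy⟩ := hP.nonempty_fixed_point_of_prime_not_dvd_card _ hnd
  refine ⟨y.1, y.2.1, y.2.2, fun x hx => ?_⟩
  have h := congrArg Subtype.val (hy ⟨x, hx⟩)
  exact mul_inv_eq_iff_eq_mul.1 (h : x * y.1 * x⁻¹ = y.1)

/-- The normalizer of an odd `p`-subgroup with two commuting involutions cannot be locally doubly
transitive on its fixed points. -/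
theorem no_four (hne : ∃ w ∈ S, w * w ≠ 1) {p : ℕ} [Fact p.Prime] {P : Subgroup G}
    (hP : IsPGroup p P) (hP1 : P ≠ ⊥) (hPα : ∀ x ∈ P, x • α = α) {a b : G} (ha : a ∈ S)
    (haP : a ∈ normalizer (P : Set G)) (hbP : b ∈ normalizer (P : Set G)) (hao : orderOf a = 2)
    (hbo : orderOf b = 2) (hab : a ≠ b) (hc : a * b = b * a)
    (hpt : ∀ δ₁ δ₂ : Δ, (∀ x ∈ P, x • δ₁ = δ₁) → (∀ x ∈ P, x • δ₂ = δ₂) → δ₁ ≠ α → δ₂ ≠ α →
      ∃ x ∈ normalizer (P : Set G), x • α = α ∧ x • δ₁ = δ₂) : False := by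
  haveI : Fact (Nat.Prime 2) := ⟨Nat.prime_two⟩
  have hodd : Odd (Nat.card P) :=
    C.stab_odd.of_dvd_nat (Subgroup.card_dvd_of_le fun x hx => mem_stabilizer_iff.2 (hPα x hx))
  have hp2 : p ≠ 2 := by
    rintro rfl
    obtain ⟨k, hk⟩ := hP.exists_card_eq
    rcases k with _ | k
    · exact hP1 ((Subgroup.eq_bot_iff_card P).2 (by rw [hk, pow_zero]))
    · rw [hk] at hodd
      exact (Nat.not_even_iff_odd.2 hodd) ⟨2 ^ k, by ring⟩
  have hPN := C.le_normalizer_of_four hodd (isSolvable_of_isPGroup hP) ha hao hbo hab hc haP hbP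
  set Y := S ⊓ centralizer (P : Set G) with hY
  set X := normalizer (P : Set G) with hX
  have hYX : Y ≤ X := inf_le_right.trans (centralizer_le_normalizer _)
  have hfixY : ∀ y ∈ Y, ∀ x ∈ P, x • y • α = y • α := fun y hy x hx => by
    rw [← mul_smul, mem_centralizer_iff.1 hy.2 x hx, mul_smul, hPα x hx]
  have hsmulN : ∀ x ∈ normalizer (S : Set G), x • α = α → ∀ s : G,
      (x * s * x⁻¹) • α = x • s • α := fun x _ hxα s => by
    rw [mul_smul, mul_smul, inv_smul_eq_iff.2 hxα.symm]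
  have hFY : ∀ δ : Δ, (∀ x ∈ P, x • δ = δ) → ∃ y ∈ Y, y • α = δ := by
    intro δ hδ
    obtain ⟨s, hs, rfl⟩ := C.regular δ
    refine ⟨s, ⟨hs, mem_centralizer_iff.2 fun x hx => ?_⟩, rfl⟩
    have h1 : (x * s * x⁻¹) • α = s • α := by rw [hsmulN x (hPN hx) (hPα x hx), hδ x hx]
    exact mul_inv_eq_iff_eq_mul.1 (C.inj_orbit ((mem_normalizer_iff.1 (hPN hx) s).1 hs) hs h1)
  have hFinv : ∀ x ∈ X, ∀ r ∈ P, r • x • α = x • α := by
    intro x hx r hr
    have hm : x⁻¹ * r * x ∈ P := by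
      have := (mem_normalizer_iff.1 (inv_mem hx) r).1 hr
      rwa [inv_inv] at this
    have := hPα _ hm
    rwa [mul_smul, mul_smul, inv_smul_eq_iff] at this
  have haY : a ∈ Y := ⟨ha, mem_centralizer_iff.2 fun x hx => by
    have h1 : x * a * x⁻¹ * a⁻¹ ∈ S :=
      mul_mem ((mem_normalizer_iff.1 (hPN hx) a).1 ha) (inv_mem ha)
    have h2 : x * a * x⁻¹ * a⁻¹ ∈ P := by
      have := mul_mem hx ((mem_normalizer_iff.1 haP x⁻¹).1 (inv_mem hx))
      simpa [mul_assoc] using this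
    have h3 := eq_one_of_mem_mem C.two hodd h1 h2
    rw [mul_inv_eq_one, mul_inv_eq_iff_eq_mul] at h3
    exact h3⟩
  -- the factorisation of `X`
  have hdec : ∀ x ∈ X, ∃ y ∈ Y, ∃ k ∈ X, k • α = α ∧ x = y * k := by
    intro x hx
    obtain ⟨y, hy, e⟩ := hFY (x • α) (hFinv x hx)
    exact ⟨y, hy, y⁻¹ * x, mul_mem (inv_mem (hYX hy)) hx, by rw [mul_smul, ← e, inv_smul_smul],
      (mul_inv_cancel_left y x).symm⟩
  haveI hXsol : Group.IsSolvable X := C.ih X (C.normalizer_ne_top_of_pGroup hP hP1)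
    (Y.subgroupOf X) ((MulAction.stabilizer G α).subgroupOf X)
    { two := (C.two.to_le inf_le_left).comap_of_injective _ X.subtype_injective
      comm := fun u hu w hw => Subtype.ext (C.comm _ (mem_subgroupOf.1 hu).1 _ (mem_subgroupOf.1 hw).1)
      odd := C.stab_odd.of_dvd_nat
        (Subgroup.card_comap_dvd_of_injective (MulAction.stabilizer G α) X.subtype X.subtype_injective)
      mul := fun g => by
        obtain ⟨y, hy, k, hk, hkα, e⟩ := hdec g g.2
        exact ⟨⟨y, hYX hy⟩, mem_subgroupOf.2 hy, ⟨k, hk⟩, mem_subgroupOf.2 (mem_stabilizer_iff.2 hkα),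
          Subtype.ext e⟩ }
  set O := Cfsg.pPrimeCore 2 X with hO
  haveI hOn : O.Normal := CfsgLib.Solvable.pPrimeCore_normal 2 X
  have hOodd : Odd (Nat.card O) :=
    Nat.coprime_two_right.1 (CfsgLib.Solvable.pPrimeCore_card_coprime 2 X)
  set O' : Subgroup G := O.map X.subtype with hO'
  have hO'odd : Odd (Nat.card O') := by
    rwa [hO', Nat.card_congr (O.equivMapOfInjective _ X.subtype_injective).toEquiv.symm]
  have hO'norm : ∀ u ∈ X, u ∈ normalizer (O' : Set G) := fun u hu =>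
    Subgroup.mem_normalizer_fintype fun w hw => by
      obtain ⟨w, hw, rfl⟩ := hw
      exact ⟨_, hOn.conj_mem w hw ⟨u, hu⟩, rfl⟩
  have hON : O' ≤ normalizer (S : Set G) := by
    haveI : Group.IsSolvable O' := Group.isSolvable_of_surjective
      (f := (O.equivMapOfInjective X.subtype X.subtype_injective).toMonoidHom)
      (O.equivMapOfInjective X.subtype X.subtype_injective).surjective
    exact C.le_normalizer_of_four hO'odd inferInstance ha hao hbo hab hc (hO'norm a haP) (hO'norm b hbP)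
  -- `X` normalises `S`
  set Yx := Y.subgroupOf X with hYx
  have hYx2 : IsPGroup 2 Yx := (C.two.to_le inf_le_left).comap_of_injective _ X.subtype_injective
  have hYxidx : ¬ 2 ∣ Yx.index := by
    intro h
    have h1 := card_orbit_mul X α
    have h2 : (fun g : G => g • α) '' (X : Set G) = (fun g : G => g • α) '' (Y : Set G) := by
      ext δ
      constructor
      · rintro ⟨x, hx, rfl⟩
        obtain ⟨y, hy, e⟩ := hFY (x • α) (hFinv x hx)
        exact ⟨y, hy, e⟩
      · rintro ⟨y, hy, rfl⟩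
        exact ⟨y, hYX hy, rfl⟩
    have h3 := card_orbit_mul Y α
    have h4 : Y ⊓ MulAction.stabilizer G α = ⊥ := by
      rw [Subgroup.eq_bot_iff_forall]
      exact fun y hy => eq_one_of_mem_mem C.two C.stab_odd hy.1.1 hy.2
    rw [h4, card_bot, one_mul] at h3
    rw [h2, ← h3, ← Nat.card_congr (subgroupOfEquivOfLe hYX).toEquiv, ← Yx.index_mul_card] at h1
    have h5 := Nat.eq_of_mul_eq_mul_right Nat.card_pos h1
    rw [h5] at h
    have hX' : Odd (Nat.card (X ⊓ MulAction.stabilizer G α : Subgroup G)) :=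
      C.stab_odd.of_dvd_nat (Subgroup.card_dvd_of_le inf_le_right)
    exact (Nat.not_even_iff_odd.2 hX') (even_iff_two_dvd.2 h)
  let T : Sylow 2 X := hYx2.toSylow hYxidx
  haveI hTn : ((T.mapSurjective (QuotientGroup.mk'_surjective O)) : Subgroup (X ⧸ O)).Normal := by
    refine pCore_two_normal_sylow _ ?_ ?_
    · rintro _ ⟨u, hu, rfl⟩ _ ⟨w, hw, rfl⟩
      rw [← map_mul, ← map_mul, show u * w = w * u from
        Subtype.ext (C.comm _ (mem_subgroupOf.1 hu).1 _ (mem_subgroupOf.1 hw).1)]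
    · intro W hW hWodd
      have := CfsgLib.Solvable.le_pPrimeCore (p := 2) hW (Nat.coprime_two_right.2 hWodd)
      rw [CfsgLib.Solvable.pPrimeCore_quotient_eq_bot O rfl] at this
      exact le_bot_iff.1 this
  set M := ((T.mapSurjective (QuotientGroup.mk'_surjective O)) : Subgroup (X ⧸ O)).comap (QuotientGroup.mk' O)
    with hM
  haveI hMn : M.Normal := hTn.comap _
  have hMeq : M = Yx ⊔ O := by
    show (Yx.map (QuotientGroup.mk' O)).comap (QuotientGroup.mk' O) = _
    rw [Subgroup.comap_map_eq, QuotientGroup.ker_mk']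
  have hfr := T.normalizer_sup_eq_top' (N := M) (by rw [hMeq]; exact le_sup_left)
  have hXN : X ≤ normalizer (S : Set G) := by
    have h1 : (⊤ : Subgroup X) ≤ (normalizer (S : Set G)).subgroupOf X := by
      refine hfr.symm.le.trans (sup_le ?_ ?_)
      · intro g hg
        have hm : (g : G) * a * (g : G)⁻¹ ∈ Y :=
          mem_subgroupOf.1 ((mem_normalizer_iff.1 hg ⟨a, hYX haY⟩).1 (mem_subgroupOf.2 haY))
        exact mem_subgroupOf.2
          (C.mem_normalizer_of_conj ha (CfsgLib.Invol.ne_one_of_invol hao) hm.1)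
      · rw [hMeq]
        refine sup_le ?_ ?_
        · intro g hg
          exact mem_subgroupOf.2 (Subgroup.le_normalizer (mem_subgroupOf.1 hg).1)
        · intro g hg
          exact mem_subgroupOf.2 (hON ⟨g, hg, rfl⟩)
    intro x hx
    exact mem_subgroupOf.1 (h1 (Subgroup.mem_top (⟨x, hx⟩ : X)))
  -- square roots separate the fixed points
  have hca : ∀ x ∈ P, x * a = a * x := fun x hx => mem_centralizer_iff.1 haY.2 x hx
  obtain ⟨y, hy, hya, hyc⟩ := C.exists_fixed_root hne hp2 hP hPN ha hao hca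
  have hy1 : y ≠ 1 := by
    intro h
    rw [h, one_mul] at hya
    exact CfsgLib.Invol.ne_one_of_invol hao hya.symm
  obtain ⟨x, hx, hxα, hxe⟩ := hpt (y • α) (a • α)
    (hfixY y ⟨hy, mem_centralizer_iff.2 fun z hz => hyc z hz⟩) (hfixY a haY)
    (fun e => hy1 (C.free (exists_two_pow C.two hy) e)) (C.invol_free hao α)
  have e1 : x * y * x⁻¹ = a := C.inj_orbit ((mem_normalizer_iff.1 (hXN hx) y).1 hy) ha
    ((hsmulN x (hXN hx) hxα y).trans hxe)
  have e2 : x * a * x⁻¹ = a * a := by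
    calc x * a * x⁻¹ = x * (y * y) * x⁻¹ := by rw [hya]
      _ = (x * y * x⁻¹) * (x * y * x⁻¹) := by group
      _ = a * a := by rw [e1]
  rw [CfsgLib.Invol.mul_self_eq_one hao] at e2
  exact CfsgLib.Invol.ne_one_of_invol hao (by simpa using e2)

/-- No nontrivial `p`-subgroup fixes three points. -/
theorem no_three (hne : ∃ w ∈ S, w * w ≠ 1) {p : ℕ} [hp : Fact p.Prime] {P₀ : Subgroup G}
    (hP₀ : IsPGroup p P₀) (hP₀1 : P₀ ≠ ⊥) {γ₀ δ₀ ε₀ : Δ} (h₁ : γ₀ ≠ δ₀) (h₂ : γ₀ ≠ ε₀)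
    (h₃ : δ₀ ≠ ε₀) (f₁ : ∀ x ∈ P₀, x • γ₀ = γ₀) (f₂ : ∀ x ∈ P₀, x • δ₀ = δ₀)
    (f₃ : ∀ x ∈ P₀, x • ε₀ = ε₀) : False := by
  classical
  let Good : Subgroup G → Prop := fun P => IsPGroup p P ∧ P ≠ ⊥ ∧ ∃ γ δ ε : Δ, γ ≠ δ ∧ γ ≠ ε ∧ δ ≠ ε ∧
    (∀ x ∈ P, x • γ = γ) ∧ (∀ x ∈ P, x • δ = δ) ∧ (∀ x ∈ P, x • ε = ε)
  haveI : Nonempty {P // Good P} := ⟨⟨P₀, hP₀, hP₀1, γ₀, δ₀, ε₀, h₁, h₂, h₃, f₁, f₂, f₃⟩⟩
  obtain ⟨⟨P, hP, hP1, γ, δ, ε, hγδ, hγε, hδε, fγ, fδ, fε⟩, hmax⟩ :=
    Finite.exists_max (fun P : {P // Good P} => Nat.card P.1)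
  set F : Set Δ := {ω | ∀ x ∈ P, x • ω = ω} with hF
  set X := normalizer (P : Set G) with hX
  have hpair : ∀ a ∈ F, ∀ b ∈ F, P ≤ pairStab a b := fun a ha b hb r hr => ⟨ha r hr, hb r hr⟩
  have hinv : ∀ x ∈ X, ∀ ω ∈ F, x • ω ∈ F := by
    intro x hx ω hω r hr
    have hm : x⁻¹ * r * x ∈ P := by
      have := (mem_normalizer_iff.1 (inv_mem hx) r).1 hr
      rwa [inv_inv] at this
    have := hω _ hm
    rwa [mul_smul, mul_smul, inv_smul_eq_iff] at this
  have hW : ∀ a ∈ F, ∀ b ∈ F, a ≠ b →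
      Nat.card P ≠ p ^ (Nat.card (pairStab (G := G) a b)).factorization p →
      ∃ W : Subgroup G, W ≤ X ∧ IsPGroup p W ∧ (∀ x ∈ W, x • a = a) ∧ (∀ x ∈ W, x • b = b) ∧
        ∀ ω : Δ, (∀ x ∈ W, x • ω = ω) → ω = a ∨ ω = b := by
    intro a ha b hb hab hne'
    set L := pairStab (G := G) a b
    have hPL : P ≤ L := hpair a ha b hb
    obtain ⟨Q, hQ⟩ := (hP.comap_of_injective L.subtype L.subtype_injective :
      IsPGroup p (P.subgroupOf L)).exists_le_sylow
    set Q' : Subgroup G := (Q : Subgroup L).map L.subtype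
    have hQc : Nat.card Q' = p ^ (Nat.card L).factorization p := by
      rw [← Q.card_eq_multiplicity]
      exact Nat.card_congr ((Q : Subgroup L).equivMapOfInjective _ L.subtype_injective).toEquiv.symm
    have hPQ : P ≤ Q' := fun r hr => ⟨⟨r, hPL hr⟩, hQ (mem_subgroupOf.2 hr), rfl⟩
    have hlt : Nat.card P < Nat.card Q' := by
      rw [hQc]; exact lt_of_le_of_ne (card_le_pPart hP hPL) hne'
    have hQ'p : IsPGroup p Q' := Q.2.map _
    have hgt := exists_normalizer_gt hQ'p hPQ hlt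
    have hWL : Q' ⊓ X ≤ L := inf_le_left.trans (Subgroup.map_subtype_le _)
    refine ⟨Q' ⊓ X, inf_le_right, hQ'p.to_le inf_le_left, fun x hx => (hWL hx).1,
      fun x hx => (hWL hx).2, fun ω hω => ?_⟩
    by_contra hcon
    push Not at hcon
    have hW1 : Q' ⊓ X ≠ ⊥ := by
      intro h
      rw [← hX, h, card_bot] at hgt
      have : 0 < Nat.card P := Nat.card_pos
      omega
    have := hmax ⟨Q' ⊓ X, hQ'p.to_le inf_le_left, hW1, a, b, ω, hab, Ne.symm hcon.1, Ne.symm hcon.2,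
      fun x hx => (hWL hx).1, fun x hx => (hWL hx).2, hω⟩
    rw [← hX] at hgt
    exact absurd this (not_le.2 hgt)
  have hpt : ∀ γ₁ ∈ F, ∀ δ₁ ∈ F, ∀ δ₂ ∈ F, δ₁ ≠ γ₁ → δ₂ ≠ γ₁ →
      ∃ x ∈ X, x • γ₁ = γ₁ ∧ x • δ₁ = δ₂ := by
    intro γ₁ hγ₁ δ₁ hδ₁ δ₂ hδ₂ e₁ e₂
    by_cases hfull : Nat.card P = p ^ (Nat.card (pairStab (G := G) γ₁ δ₁)).factorization p
    · exact C.witt (Ne.symm e₁) (Ne.symm e₂) (hpair _ hγ₁ _ hδ₁) (hpair _ hγ₁ _ hδ₂) hfull
    · by_contra hcon
      push Not at hcon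
      set Xg := X ⊓ MulAction.stabilizer G γ₁
      obtain ⟨W, hWX, hWp, hWγ, hWδ, hWfix⟩ := hW γ₁ hγ₁ δ₂ hδ₂ (Ne.symm e₂)
        (by rwa [C.card_pairStab (Ne.symm e₂) (Ne.symm e₁)])
      obtain ⟨W', hW'X, hW'p, hW'γ, hW'δ, hW'fix⟩ := hW γ₁ hγ₁ δ₁ hδ₁ (Ne.symm e₁) hfull
      have hle : W ≤ Xg := le_inf hWX fun x hx => mem_stabilizer_iff.2 (hWγ x hx)
      have hle' : W' ≤ Xg := le_inf hW'X fun x hx => mem_stabilizer_iff.2 (hW'γ x hx)
      have hγO : ∀ x : Xg, (x : G) • δ₁ ≠ γ₁ := fun x e =>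
        e₁ (MulAction.injective (x : G) (e.trans (mem_stabilizer_iff.1 x.2.2).symm))
      have hfix₁ : Nat.card (fixedPoints (W.subgroupOf Xg) (MulAction.orbit Xg δ₁)) = 0 := by
        rw [Nat.card_eq_zero]
        left
        refine ⟨fun ω => ?_⟩
        obtain ⟨x, hx⟩ := ω.1.2
        rcases hWfix (ω.1 : Δ) (fun w hw =>
          congrArg Subtype.val (ω.2 ⟨⟨w, hle hw⟩, mem_subgroupOf.2 hw⟩)) with h | h
        · exact hγO x (hx.trans h)
        · exact hcon (x : G) x.2.1 (mem_stabilizer_iff.1 x.2.2) (hx.trans h)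
      have hfix₂ : Nat.card (fixedPoints (W'.subgroupOf Xg) (MulAction.orbit Xg δ₁)) = 1 := by
        rw [Nat.card_eq_one_iff_unique]
        refine ⟨⟨fun ω ω' => ?_⟩, ⟨⟨⟨δ₁, mem_orbit_self δ₁⟩, fun w => Subtype.ext ?_⟩⟩⟩
        · have key : ∀ ω : fixedPoints (W'.subgroupOf Xg) (MulAction.orbit Xg δ₁), (ω.1 : Δ) = δ₁ := by
            intro ω
            obtain ⟨x, hx⟩ := ω.1.2
            rcases hW'fix (ω.1 : Δ) (fun w hw =>
              congrArg Subtype.val (ω.2 ⟨⟨w, hle' hw⟩, mem_subgroupOf.2 hw⟩)) with h | h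
            · exact absurd (hx.trans h) (hγO x)
            · exact h
          exact Subtype.ext (Subtype.ext ((key ω).trans (key ω').symm))
        · exact hW'δ _ (mem_subgroupOf.1 w.2)
      have m₁ : Nat.card (MulAction.orbit Xg δ₁) ≡
          Nat.card (fixedPoints (W.subgroupOf Xg) (MulAction.orbit Xg δ₁)) [MOD p] :=
        (hWp.comap_of_injective Xg.subtype Xg.subtype_injective :
          IsPGroup p (W.subgroupOf Xg)).card_modEq_card_fixedPoints (MulAction.orbit Xg δ₁)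
      have m₂ : Nat.card (MulAction.orbit Xg δ₁) ≡
          Nat.card (fixedPoints (W'.subgroupOf Xg) (MulAction.orbit Xg δ₁)) [MOD p] :=
        (hW'p.comap_of_injective Xg.subtype Xg.subtype_injective :
          IsPGroup p (W'.subgroupOf Xg)).card_modEq_card_fixedPoints (MulAction.orbit Xg δ₁)
      rw [hfix₁] at m₁
      rw [hfix₂] at m₂
      exact hp.out.not_dvd_one (Nat.modEq_zero_iff_dvd.1 (m₂.symm.trans m₁))
  obtain ⟨a, b, haX, hbX, hao, hbo, hab, hc⟩ :=
    C.hasPair_of_twoTrans hinv hpt fγ fδ fε hγδ hγε hδε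
  haveI : Fact (Nat.Prime 2) := ⟨Nat.prime_two⟩
  obtain ⟨g, hg⟩ := C.exists_conj_mem (U := zpowers a)
    (IsPGroup.of_card (n := 1) (by rw [Nat.card_zpowers, hao, pow_one]))
  obtain ⟨w, hw, hw2⟩ := hne
  exact (C.move g γ).no_four
    ⟨g * w * g⁻¹, ⟨w, hw, rfl⟩, fun h => hw2 (by
      have : g * (w * w) * g⁻¹ = 1 := by rw [← h]; group
      simpa using this)⟩
    hP hP1 fγ (hg (mem_zpowers a)) haX hbX hao hbo hab hc
    (fun δ₁ δ₂ h1 h2 e1 e2 => hpt γ fγ δ₁ h1 δ₂ h2 e1 e2)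

theorem not_nonelementary (hne : ∃ w ∈ S, w * w ≠ 1) : False := by
  obtain ⟨t, ht, hto⟩ := C.exists_invol
  set K := pairStab (G := G) α (t • α)
  have hα : α ≠ t • α := fun e => C.invol_free hto α e.symm
  have hpp : ∀ x : G, x ≠ 1 → ∀ γ δ ε : Δ, γ ≠ δ → γ ≠ ε → δ ≠ ε →
      x • γ = γ → x • δ = δ → x • ε = ε → False := by
    intro x hx γ δ ε e1 e2 e3 f1 f2 f3
    obtain ⟨p, hp, hpd⟩ := Nat.exists_prime_and_dvd (fun h => hx (orderOf_eq_one_iff.1 h))
    haveI := Fact.mk hp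
    have hy : orderOf (x ^ (orderOf x / p)) = p := orderOf_pow_orderOf_div (orderOf_pos x).ne' hpd
    have hle : ∀ ω : Δ, x • ω = ω → ∀ y ∈ zpowers (x ^ (orderOf x / p)), y • ω = ω := fun ω e y hy' => by
      have h : zpowers (x ^ (orderOf x / p)) ≤ MulAction.stabilizer G ω :=
        zpowers_le.2 (pow_mem (mem_stabilizer_iff.2 e) _)
      exact h hy'
    exact C.no_three hne (P₀ := zpowers (x ^ (orderOf x / p)))
      (IsPGroup.of_card (n := 1) (by rw [Nat.card_zpowers, hy, pow_one]))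
      (fun h => by
        have : x ^ (orderOf x / p) = 1 := Subgroup.zpowers_eq_bot.1 h
        rw [this, orderOf_one] at hy
        exact hp.one_lt.ne hy)
      e1 e2 e3 (hle _ f1) (hle _ f2) (hle _ f3)
  have hD : MulAction.stabilizer G α ⊓ centralizer ({t} : Set G) = ⊥ := by
    rw [Subgroup.eq_bot_iff_forall]
    intro x hx
    by_contra hx1
    obtain ⟨p, hp, hpd⟩ := Nat.exists_prime_and_dvd (fun h => hx1 (orderOf_eq_one_iff.1 h))
    haveI := Fact.mk hp
    have hy : orderOf (x ^ (orderOf x / p)) = p := orderOf_pow_orderOf_div (orderOf_pos x).ne' hpd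
    set P := zpowers (x ^ (orderOf x / p))
    have hPH : P ≤ MulAction.stabilizer G α := zpowers_le.2 (pow_mem hx.1 _)
    have hPC : P ≤ centralizer ({t} : Set G) := zpowers_le.2 (pow_mem hx.2 _)
    have ht1 := CfsgLib.Invol.ne_one_of_invol hto
    obtain ⟨y, hyS, hyt, hyc⟩ := C.exists_fixed_root hne (p := p)
      (fun h => by
        have := (odd_orderOf_of_mem C.stab_odd (pow_mem hx.1 (orderOf x / p)))
        rw [hy, h] at this
        exact absurd this (by decide))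
      (IsPGroup.of_card (n := 1) (by rw [Nat.card_zpowers, hy, pow_one]))
      (hPC.trans (C.centralizer_le_normalizer' ht ht1)) ht hto
      (fun z hz => mem_centralizer_singleton_iff.1 (hPC hz))
    have hz := mem_zpowers (x ^ (orderOf x / p))
    have hzα := mem_stabilizer_iff.1 (hPH hz)
    have hz1 : x ^ (orderOf x / p) ≠ 1 := fun h => by
      rw [h, orderOf_one] at hy; exact hp.one_lt.ne hy
    have hzt := mem_centralizer_singleton_iff.1 (hPC hz)
    refine hpp _ hz1 α (t • α) (y • α) hα ?_ ?_ hzα ?_ ?_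
    · intro e
      have hy1 := C.free (exists_two_pow C.two hyS) e.symm
      rw [hy1, one_mul] at hyt
      exact ht1 hyt.symm
    · intro e
      have hyeq := C.inj_orbit hyS ht e.symm
      rw [hyeq, CfsgLib.Invol.mul_self_eq_one hto] at hyt
      exact ht1 hyt.symm
    · rw [← mul_smul, hzt, mul_smul, hzα]
    · rw [← mul_smul, hyc _ hz, mul_smul, hzα]
  have h1 := C.card_stab_mul
  have h2 := C.card_stabN_mul ht hto
  have h3 := C.card_stab_suborbit ht hto
  rw [hD, card_bot, one_mul] at h2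
  rw [h2] at h1
  set m := ({x | x ∈ S ∧ orderOf x = 2} : Set G).ncard
  obtain ⟨k, hk⟩ := C.conjugates_modEq
  rw [hk] at h1
  haveI : Fact (Nat.Prime 2) := ⟨Nat.prime_two⟩
  obtain ⟨n, hn⟩ := IsPGroup.iff_card.1 C.two
  have hKdvd : Nat.card K ∣ Nat.card S - 2 := by
    have := card_dvd_of_free K ({α, t • α}ᶜ : Set Δ)
      (fun x hx ω hω hmem => by
        rcases hmem with h | h
        · exact hω (Or.inl (MulAction.injective x (h.trans (mem_pairStab.1 hx).1.symm)))
        · exact hω (Or.inr (MulAction.injective x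
            ((Set.mem_singleton_iff.1 h).trans (mem_pairStab.1 hx).2.symm))))
      (fun x hx ω hω e => by
        by_contra hx1
        simp only [Set.mem_compl_iff, Set.mem_insert_iff, Set.mem_singleton_iff, not_or] at hω
        exact hpp x hx1 α (t • α) ω hα (Ne.symm hω.1) (Ne.symm hω.2) (mem_pairStab.1 hx).1
          (mem_pairStab.1 hx).2 e)
    rwa [Set.ncard_compl, Set.ncard_pair hα, C.card_points] at this
  have hKodd : Odd (Nat.card K) := C.odd_pairStab _ _
  let Ω : Subgroup G :=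
    { carrier := {x | x ∈ S ∧ x * x = 1}
      one_mem' := ⟨one_mem S, one_mul 1⟩
      mul_mem' := fun {x z} hx hz => ⟨mul_mem hx.1 hz.1, by
        calc x * z * (x * z) = x * (z * x) * z := by group
          _ = x * (x * z) * z := by rw [C.comm z hz.1 x hx.1]
          _ = (x * x) * (z * z) := by group
          _ = 1 := by rw [hx.2, hz.2, mul_one]⟩
      inv_mem' := fun {x} hx => ⟨inv_mem hx.1, by rw [← mul_inv_rev, hx.2, inv_one]⟩ }
  have hΩS : Ω ≤ S := fun x hx => hx.1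
  have hΩm : Nat.card Ω = m + 1 := by
    have : (Ω : Set G) = insert 1 ({x | x ∈ S ∧ orderOf x = 2} : Set G) := by
      ext x
      simp only [Set.mem_insert_iff, Set.mem_setOf_eq, SetLike.mem_coe]
      constructor
      · intro hx
        by_cases h : x = 1
        · exact Or.inl h
        · exact Or.inr ⟨hx.1, CfsgLib.Invol.orderOf_eq_two h hx.2⟩
      · rintro (rfl | h)
        · exact one_mem Ω
        · exact ⟨h.1, CfsgLib.Invol.mul_self_eq_one h.2⟩
    rw [show Nat.card Ω = ((Ω : Set G)).ncard from Nat.card_coe_set_eq (Ω : Set G), this,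
      Set.ncard_insert_of_notMem (fun h => CfsgLib.Invol.ne_one_of_invol h.2 rfl)]
  have hΩlt : 2 * (m + 1) ≤ Nat.card S := by
    obtain ⟨c, hc⟩ := Subgroup.card_dvd_of_le hΩS
    rw [hΩm] at hc
    rw [hc]
    rcases c with _ | _ | c
    · exact absurd hc (by rw [mul_zero]; exact Nat.card_pos.ne')
    · obtain ⟨w, hw, hw2⟩ := hne
      have : Ω = S := Subgroup.eq_of_le_of_card_ge hΩS (by rw [hΩm, hc]; simp)
      exact absurd ((this.symm ▸ hw : w ∈ Ω).2) hw2
    · rw [mul_comm 2]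
      exact Nat.mul_le_mul le_rfl (by omega)
  have hSpos : 0 < Nat.card S := Nat.card_pos
  obtain ⟨w, hw, hw2⟩ := hne
  have hn2 : 2 ≤ n := by
    by_contra hlt
    push Not at hlt
    have hd : orderOf w ∣ 2 := by
      refine (S.orderOf_dvd_natCard hw).trans ?_
      rw [hn]
      interval_cases n <;> norm_num
    exact hw2 (by rw [← pow_two]; exact orderOf_dvd_iff_pow_eq_one.1 hd)
  obtain ⟨n', rfl⟩ : ∃ n', n = n' + 1 := ⟨n - 1, by omega⟩
  have hKle : 2 * Nat.card K + 2 ≤ Nat.card S := by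
    obtain ⟨c, hc⟩ := hKdvd
    have hS4 : 4 ≤ Nat.card S := by
      rw [hn]; exact le_trans (by norm_num) (Nat.pow_le_pow_right two_pos hn2)
    have hSeven : 2 ∣ Nat.card S := by rw [hn, pow_succ]; exact dvd_mul_left _ _
    obtain ⟨c', rfl⟩ : 2 ∣ c := by
      have h2 : 2 ∣ Nat.card K * c := by rw [← hc]; exact Nat.dvd_sub hSeven (dvd_refl 2)
      exact (Nat.coprime_two_left.2 hKodd).dvd_of_dvd_mul_left h2
    rcases c' with _ | c'
    · omega
    · have : Nat.card K * 2 ≤ Nat.card K * (2 * (c' + 1)) := Nat.mul_le_mul_left _ (by omega)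
      omega
  rw [h1] at h3
  have h3' : (m * k + Nat.card K * 0) * Nat.card S + m + Nat.card K = Nat.card K * Nat.card S := by
    obtain ⟨q, hq⟩ : ∃ q, Nat.card S = q + 1 := ⟨Nat.card S - 1, by omega⟩
    rw [hq] at h3 ⊢
    simp only [Nat.add_sub_cancel] at h3
    rw [Nat.mul_add (Nat.card K) q 1, ← h3]
    ring
  rw [mul_zero, add_zero] at h3'
  have hKpos : 0 < Nat.card K := Nat.card_pos
  rcases le_or_gt (Nat.card K) (m * k) with h | h
  · have : Nat.card K * Nat.card S ≤ m * k * Nat.card S := Nat.mul_le_mul_right _ h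
    omega
  · have : (m * k + 1) * Nat.card S ≤ Nat.card K * Nat.card S := Nat.mul_le_mul_right _ h
    rw [add_mul, one_mul] at this
    omega

end Ctx

end CfsgLib.OddProduct
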