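import Cfsg.Agent.Lib.OddProduct.Structure

/-!
Schur's argument: every suborbit of the action contains the image of an involution of the regular
abelian 2-subgroup, so the action is doubly transitive.
-/

set_option autoImplicit false
set_option linter.unusedSectionVars false
set_option linter.style.haveILetI false

namespace CfsgLib.OddProduct

open MulAction Subgroup

universe u v

variable {G : Type u} [Group G] {Δ : Type v} [MulAction G Δ]

theorem modEq_of_eq {a b n : ℕ} (h : a = b) : a ≡ b [MOD n] := by rw [h]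

namespace Ctx

variable [Finite G] [Finite Δ] {S : Subgroup G} {α : Δ} (C : Ctx S α)

/-- The invariant relation attached to a suborbit. -/
def Rel (O : Set Δ) (α γ δ : Δ) : Prop := ∃ g : G, g • γ = α ∧ g • δ ∈ O

include C

theorem rel_smul {O : Set Δ} (g : G) {γ δ : Δ} (h : Rel (G := G) O α γ δ) :
    Rel (G := G) O α (g • γ) (g • δ) := by
  obtain ⟨k, h1, h2⟩ := h
  exact ⟨k * g⁻¹, by rw [mul_smul, inv_smul_smul, h1], by rwa [mul_smul, inv_smul_smul]⟩

theorem rel_iff {O : Set Δ}
    (hO : ∀ h ∈ MulAction.stabilizer G α, ∀ δ ∈ O, h • δ ∈ O) (x : G) (δ : Δ) :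
    Rel (G := G) O α (x • α) δ ↔ x⁻¹ • δ ∈ O := by
  constructor
  · rintro ⟨g, h1, h2⟩
    have hh : g * x ∈ MulAction.stabilizer G α := by rw [mem_stabilizer_iff, mul_smul, h1]
    have := hO _ (inv_mem hh) _ h2
    rwa [← mul_smul, mul_inv_rev, inv_mul_cancel_right] at this
  · intro h
    exact ⟨x⁻¹, inv_smul_smul x α, h⟩

/-- The number of square roots of `y` in the suborbit has the parity of a count of paths. -/
theorem paths_modEq {O : Set Δ}
    (hO : ∀ h ∈ MulAction.stabilizer G α, ∀ δ ∈ O, h • δ ∈ O) {y : G} (hy : y ∈ S) :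
    Nat.card {ε : Δ // Rel (G := G) O α α ε ∧ Rel (G := G) O α ε (y • α)} ≡
      Nat.card {x : S // (x : G) • α ∈ O ∧ (x : G) * x = y} [MOD 2] := by
  classical
  haveI : Fact (Nat.Prime 2) := ⟨Nat.prime_two⟩
  let T : Type u := {x : S // (x : G) • α ∈ O ∧ ((x : G)⁻¹ * y) • α ∈ O}
  have h1 : Nat.card {ε : Δ // Rel (G := G) O α α ε ∧ Rel (G := G) O α ε (y • α)} = Nat.card T := by
    refine (Nat.card_congr (Equiv.ofBijective (fun x : T =>
      (⟨((x.1 : S) : G) • α, ?_, ?_⟩ :
        {ε : Δ // Rel (G := G) O α α ε ∧ Rel (G := G) O α ε (y • α)})) ⟨?_, ?_⟩)).symm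
    · exact ⟨1, one_smul G α, by rw [one_smul]; exact x.2.1⟩
    · rw [C.rel_iff hO, ← mul_smul]; exact x.2.2
    · intro a b hab
      exact Subtype.ext (Subtype.ext (C.inj_orbit a.1.2 b.1.2 (congrArg Subtype.val hab)))
    · rintro ⟨ε, hε1, hε2⟩
      obtain ⟨s, hs, rfl⟩ := C.regular ε
      refine ⟨⟨⟨s, hs⟩, ?_, ?_⟩, rfl⟩
      · have hε1' : Rel (G := G) O α ((1 : G) • α) (s • α) := by rw [one_smul]; exact hε1
        simpa using (C.rel_iff hO 1 (s • α)).1 hε1'
      · rw [mul_smul]; exact (C.rel_iff hO s (y • α)).1 hε2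
  rw [h1]
  let f : Function.End T := fun x => ⟨⟨(x.1 : G)⁻¹ * y, mul_mem (inv_mem x.1.2) hy⟩, x.2.2, by
    rw [mul_inv_rev, inv_inv, mul_assoc, C.comm (x.1 : G) x.1.2 y hy, inv_mul_cancel_left]
    exact x.2.1⟩
  have hf : f ^ 2 ^ 1 = 1 := by
    funext x
    apply Subtype.ext
    apply Subtype.ext
    show ((x.1 : G)⁻¹ * y)⁻¹ * y = x.1
    rw [mul_inv_rev, inv_inv, mul_assoc, C.comm (x.1 : G) x.1.2 y hy, inv_mul_cancel_left]
  have h2 : Nat.card T ≡ Nat.card (Function.fixedPoints f) [MOD 2] := by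
    have key : ∀ (T' : Type u) [Finite T'] (f' : Function.End T'), f' ^ 2 ^ 1 = 1 →
        Nat.card T' ≡ Nat.card (Function.fixedPoints f') [MOD 2] := by
      intro T' _ f' hf'
      letI iT : Fintype T' := Fintype.ofFinite T'
      rw [Nat.card_eq_fintype_card, Nat.card_eq_fintype_card]
      exact Equiv.Perm.card_fixedPoints_modEq hf'
    exact key T f hf
  refine h2.trans (modEq_of_eq (Nat.card_congr ?_))
  exact
    { toFun := fun x => ⟨(x.1 : T).1, (x.1 : T).2.1, by
        have e : ((x.1 : T).1 : G)⁻¹ * y = ((x.1 : T).1 : G) :=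
          congrArg (fun z : T => ((z.1 : S) : G)) (x.2 : f x.1 = x.1)
        rw [inv_mul_eq_iff_eq_mul] at e
        exact e.symm⟩
      invFun := fun x => ⟨⟨x.1, x.2.1, by
          have e : (x.1 : G)⁻¹ * y = x.1 := by
            conv_lhs => arg 2; rw [← x.2.2]
            rw [inv_mul_cancel_left]
          rw [e]
          exact x.2.1⟩,
        Subtype.ext (Subtype.ext (by
          show (x.1 : G)⁻¹ * y = x.1
          conv_lhs => arg 2; rw [← x.2.2]
          rw [inv_mul_cancel_left]))⟩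
      left_inv := fun x => rfl
      right_inv := fun x => rfl }

theorem roots_modEq {O : Set Δ}
    (hO : ∀ h ∈ MulAction.stabilizer G α, ∀ δ ∈ O, h • δ ∈ O) {y y' : G} (hy : y ∈ S)
    (hy' : y' ∈ S) {h : G} (hh : h ∈ MulAction.stabilizer G α) (e : h • y • α = y' • α) :
    Nat.card {x : S // (x : G) • α ∈ O ∧ (x : G) * x = y} ≡
      Nat.card {x : S // (x : G) • α ∈ O ∧ (x : G) * x = y'} [MOD 2] := by
  refine ((C.paths_modEq hO hy).symm.trans ?_).trans (C.paths_modEq hO hy')
  refine modEq_of_eq (Nat.card_congr ((MulAction.toPerm h).subtypeEquiv fun ε => ?_))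
  have hα : h • α = α := mem_stabilizer_iff.1 hh
  show _ ↔ Rel (G := G) O α α (h • ε) ∧ Rel (G := G) O α (h • ε) (y' • α)
  constructor
  · rintro ⟨a, b⟩
    refine ⟨?_, ?_⟩
    · have := C.rel_smul h a
      rwa [hα] at this
    · have := C.rel_smul h b
      rwa [e] at this
  · rintro ⟨a, b⟩
    refine ⟨?_, ?_⟩
    · have := C.rel_smul h⁻¹ a
      rwa [inv_smul_smul, inv_smul_eq_iff.2 hα.symm] at this
    · have := C.rel_smul h⁻¹ b
      rwa [inv_smul_smul, inv_smul_eq_iff.2 e.symm] at this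

/-- A proper subgroup of `S` contains no suborbit other than the trivial one. -/
theorem suborbit_not_subset {Y₀ : Subgroup G} (hY₀ : Y₀ ≤ S) (hne : ¬ S ≤ Y₀) {y : G} (hy : y ∈ Y₀)
    (hy1 : y ≠ 1)
    (hinv : ∀ h ∈ MulAction.stabilizer G α, ∃ z ∈ Y₀, h • y • α = z • α) : False := by
  set T : Set G := {z | z ∈ Y₀ ∧ ∃ h ∈ MulAction.stabilizer G α, h • y • α = z • α} with hT
  set Y : Subgroup G := Subgroup.closure T with hY
  have hYle : Y ≤ Y₀ := (Subgroup.closure_le _).2 fun z hz => hz.1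
  have key : ∀ w ∈ Y, ∀ h ∈ MulAction.stabilizer G α, ∃ w' ∈ Y, h • w • α = w' • α := by
    intro w hw
    have hpow : ∀ w : G, (∀ h ∈ MulAction.stabilizer G α, ∃ w' ∈ Y, h • w • α = w' • α) →
        ∀ k : ℕ, ∀ h ∈ MulAction.stabilizer G α, ∃ w' ∈ Y, h • (w ^ k) • α = w' • α := by
      intro w hw k
      induction k with
      | zero =>
        intro h hh
        exact ⟨1, one_mem Y, by simp [mem_stabilizer_iff.1 hh]⟩
      | succ k ih =>
        intro h hh
        rw [pow_succ']
        obtain ⟨a, ha, ea⟩ := hw h hh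
        have hh' : a⁻¹ * (h * w) ∈ MulAction.stabilizer G α := by
          rw [mem_stabilizer_iff, mul_smul, mul_smul, ea, inv_smul_smul]
        obtain ⟨b, hb, eb⟩ := ih _ hh'
        refine ⟨a * b, mul_mem ha hb, ?_⟩
        rw [mul_smul a b, ← eb]
        simp only [← mul_smul]
        congr 1
        group
    induction hw using Subgroup.closure_induction with
    | mem z hz =>
      intro h hh
      obtain ⟨hz0, k, hk, ek⟩ := hz
      obtain ⟨z', hz', e'⟩ := hinv (h * k) (mul_mem hh hk)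
      exact ⟨z', Subgroup.subset_closure ⟨hz', h * k, mul_mem hh hk, e'⟩,
        by rw [← ek, ← mul_smul h k]; exact e'⟩
    | one =>
      intro h hh
      exact ⟨1, one_mem Y, by simp [mem_stabilizer_iff.1 hh]⟩
    | mul w₁ w₂ _ _ ih₁ ih₂ =>
      intro h hh
      obtain ⟨a, ha, ea⟩ := ih₁ h hh
      have hh' : a⁻¹ * (h * w₁) ∈ MulAction.stabilizer G α := by
        rw [mem_stabilizer_iff, mul_smul, mul_smul, ea, inv_smul_smul]
      obtain ⟨b, hb, eb⟩ := ih₂ _ hh'
      refine ⟨a * b, mul_mem ha hb, ?_⟩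
      rw [mul_smul a b, ← eb]
      simp only [← mul_smul]
      congr 1
      group
    | inv w _ ih =>
      have hw : w⁻¹ = w ^ (orderOf w - 1) := by
        refine inv_eq_of_mul_eq_one_right ?_
        rw [← pow_succ', Nat.sub_add_cancel (orderOf_pos w), pow_orderOf_eq_one]
      rw [hw]
      exact hpow w ih _
  set B : Set Δ := (fun w : G => w • α) '' (Y : Set G) with hB
  let M : Subgroup G :=
    { carrier := {g | (fun δ : Δ => g • δ) '' B = B}
      one_mem' := by simp
      mul_mem' := fun {a b} ha hb => by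
        show (fun δ : Δ => (a * b) • δ) '' B = B
        have ha' : (fun δ : Δ => a • δ) '' B = B := ha
        have hb' : (fun δ : Δ => b • δ) '' B = B := hb
        calc (fun δ : Δ => (a * b) • δ) '' B
            = (fun δ : Δ => a • δ) '' ((fun δ : Δ => b • δ) '' B) := by
              ext z
              constructor
              · rintro ⟨x, hx, rfl⟩
                exact ⟨b • x, ⟨x, hx, rfl⟩, (mul_smul a b x).symm⟩
              · rintro ⟨_, ⟨x, hx, rfl⟩, rfl⟩
                exact ⟨x, hx, mul_smul a b x⟩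
          _ = B := by rw [hb', ha']
      inv_mem' := fun {a} ha => by
        show (fun δ : Δ => a⁻¹ • δ) '' B = B
        conv_lhs => rw [← (ha : (fun δ : Δ => a • δ) '' B = B)]
        rw [Set.image_image]
        simp }
  have hsub : ∀ g : G, (∀ δ ∈ B, g • δ ∈ B) → g ∈ M := fun g hg =>
    Set.eq_of_subset_of_ncard_le (Set.image_subset_iff.2 hg)
      (le_of_eq (Set.ncard_image_of_injective _ (MulAction.injective g)).symm) (Set.toFinite _)
  have hHM : MulAction.stabilizer G α ≤ M := fun h hh => hsub h (by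
    rintro _ ⟨w, hw, rfl⟩
    obtain ⟨w', hw', e⟩ := key w hw h hh
    exact ⟨w', hw', e.symm⟩)
  have hyM : y ∈ M := hsub y (by
    rintro _ ⟨w, hw, rfl⟩
    exact ⟨y * w, mul_mem (Subgroup.subset_closure ⟨hy, 1, one_mem _, one_smul G _⟩) hw, mul_smul y w α⟩)
  rcases C.max M hHM with h | h
  · rw [h] at hyM
    exact hy1 (C.free (exists_two_pow C.two (hY₀ hy)) (mem_stabilizer_iff.1 hyM))
  · refine hne fun s hs => ?_
    have hs' : s ∈ M := h ▸ Subgroup.mem_top s
    have hα : α ∈ B := ⟨1, one_mem Y, one_smul G α⟩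
    have : s • α ∈ B := by
      have h' : (fun δ : Δ => s • δ) '' B = B := hs'
      rw [← h']
      exact ⟨α, hα, rfl⟩
    obtain ⟨w, hw, e⟩ := this
    rw [C.inj_orbit hs (hY₀ (hYle hw)) e.symm]
    exact hYle hw

/-- The point stabilizer is transitive on the other points. -/
theorem two_transitive {t : G} (ht : t ∈ S) (hto : orderOf t = 2) {δ : Δ} (hδ : δ ≠ α) :
    ∃ h ∈ MulAction.stabilizer G α, h • t • α = δ := by
  classical
  set O : Set Δ := (fun h : G => h • δ) '' (MulAction.stabilizer G α : Set G) with hOdef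
  have hO : ∀ h ∈ MulAction.stabilizer G α, ∀ ε ∈ O, h • ε ∈ O := by
    rintro h hh _ ⟨k, hk, rfl⟩
    exact ⟨h * k, mul_mem hh hk, mul_smul h k δ⟩
  have hodd : Odd O.ncard := by
    have := card_eq_mul_image (fun h : G => h • δ) (H := MulAction.stabilizer G α)
      (K := MulAction.stabilizer G α ⊓ MulAction.stabilizer G δ) inf_le_left (fun a ha b hb => by
        simp only [Subgroup.mem_inf, mem_stabilizer_iff, mul_smul, inv_smul_eq_iff]
        constructor
        · intro h
          exact ⟨by rw [mem_stabilizer_iff.1 hb, mem_stabilizer_iff.1 ha], h.symm⟩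
        · rintro ⟨-, h⟩
          exact h.symm)
    exact C.stab_odd.of_dvd_nat ⟨_, this.trans (mul_comm _ _)⟩
  let sq : S →* G :=
    { toFun := fun x => (x : G) * x
      map_one' := by simp
      map_mul' := fun a b => by
        show (a : G) * b * (a * b) = a * a * (b * b)
        rw [mul_assoc (a : G) b, ← mul_assoc (b : G) a b, C.comm b b.2 a a.2]
        group }
  have hsq : sq.range ≤ S := by
    rintro _ ⟨x, rfl⟩
    exact mul_mem x.2 x.2
  have hsqne : ¬ S ≤ sq.range := by
    intro h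
    have hsurj : Function.Surjective (fun x : S => (⟨sq x, hsq ⟨x, rfl⟩⟩ : S)) := fun y => by
      obtain ⟨x, hx⟩ := h y.2
      exact ⟨x, Subtype.ext hx⟩
    have hinj := Finite.injective_iff_surjective.2 hsurj
    have h1 : (⟨t, ht⟩ : S) = 1 := hinj (Subtype.ext (by
      show t * t = (1 : G) * 1
      rw [CfsgLib.Invol.mul_self_eq_one hto, one_mul]))
    exact CfsgLib.Invol.ne_one_of_invol hto (congrArg Subtype.val h1)
  have heven : ∀ y : G, y ≠ 1 →
      Even (Nat.card {x : S // (x : G) • α ∈ O ∧ (x : G) * x = y}) := by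
    intro y hy1
    by_contra hne
    rw [Nat.not_even_iff_odd] at hne
    obtain ⟨x, hx⟩ : ∃ x : S, (x : G) • α ∈ O ∧ (x : G) * x = y := by
      have : 0 < Nat.card {x : S // (x : G) • α ∈ O ∧ (x : G) * x = y} := hne.pos
      obtain ⟨⟨x, hx⟩⟩ := (Nat.card_pos_iff.1 this).1
      exact ⟨x, hx⟩
    have hy : y ∈ sq.range := ⟨x, hx.2⟩
    refine C.suborbit_not_subset hsq hsqne hy hy1 fun h hh => ?_
    obtain ⟨z, hz, ez⟩ := C.regular (h • y • α)
    refine ⟨z, ?_, ez.symm⟩
    have hm := C.roots_modEq hO (hsq hy) hz hh ez.symm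
    have hpos : Nat.card {x : S // (x : G) • α ∈ O ∧ (x : G) * x = z} ≠ 0 := by
      intro h0
      rw [h0] at hm
      exact (Nat.not_even_iff_odd.2 hne) (even_iff_two_dvd.2 (Nat.modEq_zero_iff_dvd.1 hm))
    obtain ⟨⟨x', hx'⟩⟩ := (Nat.card_ne_zero.1 hpos).1
    exact ⟨x', hx'.2⟩
  haveI := Fintype.ofFinite S
  have hcount : O.ncard = (Finset.univ.filter fun x : S => (x : G) • α ∈ O).card := by
    rw [← Nat.card_coe_set_eq, ← Fintype.card_subtype, ← Nat.card_eq_fintype_card]
    refine Nat.card_congr (Equiv.ofBijective (fun x : {x : S // (x : G) • α ∈ O} =>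
      (⟨(x.1 : G) • α, x.2⟩ : O)) ⟨fun a b h => ?_, fun ⟨ε, hε⟩ => ?_⟩).symm
    · exact Subtype.ext (Subtype.ext (C.inj_orbit a.1.2 b.1.2 (congrArg Subtype.val h)))
    · obtain ⟨s, hs, rfl⟩ := C.regular ε
      exact ⟨⟨⟨s, hs⟩, hε⟩, rfl⟩
  have hex : ∃ x : S, (x : G) • α ∈ O ∧ (x : G) * x = 1 := by
    by_contra hno
    push Not at hno
    refine (Nat.not_even_iff_odd.2 hodd) ?_
    rw [hcount, Finset.card_eq_sum_card_fiberwise (f := fun x : S => (x : G) * x)
      (t := Finset.univ.image fun x : S => (x : G) * x) (fun x _ => Finset.mem_image_of_mem _ (Finset.mem_univ x))]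
    refine Finset.even_sum _ fun y _ => ?_
    rw [Finset.filter_filter, ← Fintype.card_subtype, ← Nat.card_eq_fintype_card]
    by_cases hy : y = 1
    · subst hy
      rw [Nat.card_eq_zero.2 (Or.inl ⟨fun x => hno x.1 x.2.1 x.2.2⟩)]
      exact Even.zero
    · exact heven y hy
  obtain ⟨x, ⟨k, hk, ek⟩, hx2⟩ := hex
  have hx1 : (x : G) ≠ 1 := by
    intro h
    rw [h, one_smul] at ek
    have e : k • δ = k • α := by
      rw [mem_stabilizer_iff.1 hk]
      exact ek
    exact hδ (MulAction.injective k e)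
  obtain ⟨a, ha, -, ea⟩ := C.conj_invol ht hto x.2 (CfsgLib.Invol.orderOf_eq_two hx1 hx2)
  refine ⟨k⁻¹ * a, mul_mem (inv_mem hk) ha, ?_⟩
  rw [mul_smul, inv_smul_eq_iff]
  calc a • t • α = (a * t * a⁻¹) • α := by
        rw [mul_smul, mul_smul, inv_smul_eq_iff.2 (mem_stabilizer_iff.1 ha).symm]
    _ = (x : G) • α := by rw [ea]
    _ = k • δ := ek.symm

end Ctx

end CfsgLib.OddProduct
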