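import Cfsg.Agent.Lib.OddProduct.Basic

/-!
The centralizers of the nontrivial elements of the regular abelian 2-subgroup lie in its
normalizer; it is a trivial intersection set and all involutions are conjugate.
-/

set_option autoImplicit false
set_option linter.unusedSectionVars false
set_option linter.style.haveILetI false

namespace CfsgLib.OddProduct

open MulAction Subgroup

universe u v

variable {G : Type u} [Group G]

theorem pCore_two_normal_sylow [Finite G] [Group.IsSolvable G] (T : Sylow 2 G)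
    (hT : ∀ a ∈ (T : Subgroup G), ∀ b ∈ (T : Subgroup G), a * b = b * a)
    (hO : ∀ W : Subgroup G, W.Normal → Odd (Nat.card W) → W = ⊥) : (T : Subgroup G).Normal := by
  haveI : Fact (Nat.Prime 2) := ⟨Nat.prime_two⟩
  have hle : Cfsg.fittingSubgroup G ≤ Cfsg.pCore 2 G := by
    rw [CfsgLib.Solvable.fittingSubgroup_eq_iSup_pCore]
    refine iSup_le fun q => ?_
    haveI : Fact (q : ℕ).Prime := ⟨(Nat.mem_primeFactors.1 q.2).1⟩
    by_cases hq : (q : ℕ) = 2
    · rw [hq]
    · obtain ⟨n, hn⟩ := CfsgLib.Solvable.card_pCore (p := (q : ℕ)) (G := G)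
      rw [hO _ (CfsgLib.Solvable.pCore_normal _ G) (by
        rw [hn]
        exact ((Nat.Prime.odd_of_ne_two Fact.out hq)).pow)]
      exact bot_le
  have hFT : Cfsg.fittingSubgroup G ≤ (T : Subgroup G) :=
    hle.trans (CfsgLib.Solvable.pCore_le_sylow T)
  have hTF : (T : Subgroup G) ≤ Cfsg.fittingSubgroup G :=
    le_trans (fun x hx => mem_centralizer_iff.2 fun f hf => hT f (hFT hf) x hx)
      CfsgLib.Solvable.centralizer_fittingSubgroup_le
  rw [le_antisymm hTF hFT]
  exact CfsgLib.Solvable.fittingSubgroup_normal G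

variable {Δ : Type v} [MulAction G Δ]

namespace Ctx

variable [Finite G] [Finite Δ] {S : Subgroup G} {α : Δ} (C : Ctx S α)
include C

/-- The context for another regular point and a conjugate of `S`. -/
theorem move (g : G) (γ : Δ) : Ctx (S.map (MulAut.conj g).toMonoidHom) γ where
  simple := C.simple
  nsolv := C.nsolv
  ih := C.ih
  two := C.two.map _
  comm := by
    rintro _ ⟨a, ha, rfl⟩ _ ⟨b, hb, rfl⟩
    rw [← map_mul, ← map_mul, C.comm a ha b hb]
  sylow := by
    rw [show (S.map (MulAut.conj g).toMonoidHom) = S.map ((MulAut.conj g : G ≃* G) : G →* G) from rfl,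
      Subgroup.index_map_equiv]
    exact C.sylow
  regular := fun δ => by
    obtain ⟨s, hs, e⟩ := C.regular_any (g⁻¹ • γ) (g⁻¹ • δ)
    refine ⟨g * s * g⁻¹, ⟨s, hs, rfl⟩, ?_⟩
    rw [mul_smul, mul_smul, e, smul_inv_smul]
  stab_odd := C.stab_odd_any γ
  max := fun M hM => by
    obtain ⟨s, -, rfl⟩ := C.regular γ
    rw [MulAction.stabilizer_smul_eq_stabilizer_map_conj] at hM ⊢
    set φ := (MulAut.conj s : G ≃* G)
    rcases C.max (M.comap φ.toMonoidHom) (Subgroup.map_le_iff_le_comap.1 hM) with h | h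
    · left
      rw [← h, Subgroup.map_comap_eq_self_of_surjective φ.surjective]
    · right
      rw [← Subgroup.map_comap_eq_self_of_surjective (f := φ.toMonoidHom) φ.surjective M, h,
        Subgroup.map_top_of_surjective _ φ.surjective]
  faithful := C.faithful

/-- A subgroup that contains `S` and is proper is solvable. -/
theorem solvable_of_le {X : Subgroup G} (hSX : S ≤ X) (hX : X ≠ ⊤) : Group.IsSolvable X := by
  refine C.ih X hX (S.subgroupOf X) ((MulAction.stabilizer G α).subgroupOf X) ⟨?_, ?_, ?_, ?_⟩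
  · exact C.two.comap_of_injective _ X.subtype_injective
  · intro a ha b hb
    exact Subtype.ext (C.comm _ (mem_subgroupOf.1 ha) _ (mem_subgroupOf.1 hb))
  · refine C.stab_odd.of_dvd_nat ?_
    exact Subgroup.card_comap_dvd_of_injective (MulAction.stabilizer G α) X.subtype X.subtype_injective
  · intro g
    obtain ⟨s, hs, h, hh, e⟩ := C.mul_decomp (g : G)
    have hhX : h ∈ X := by
      have : h = s⁻¹ * g := by rw [e, inv_mul_cancel_left]
      rw [this]; exact mul_mem (inv_mem (hSX hs)) g.2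
    exact ⟨⟨s, hSX hs⟩, mem_subgroupOf.2 hs, ⟨h, hhX⟩, mem_subgroupOf.2 hh, Subtype.ext e⟩

/-- Proper subgroups containing `S` normalise it. -/
theorem le_normalizer_of_le {X : Subgroup G} (hSX : S ≤ X) (hX : X ≠ ⊤) :
    X ≤ normalizer (S : Set G) := by
  haveI := C.solvable_of_le hSX hX
  haveI : Fact (Nat.Prime 2) := ⟨Nat.prime_two⟩
  have hT : IsPGroup 2 (S.subgroupOf X) := C.two.comap_of_injective _ X.subtype_injective
  have hidx : ¬ 2 ∣ (S.subgroupOf X).index := by
    intro h2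
    exact (Nat.not_even_iff_odd.2 C.sylow) (even_iff_two_dvd.2
      (h2.trans (relIndex_dvd_index_of_le hSX)))
  have hn := pCore_two_normal_sylow (hT.toSylow hidx)
    (fun a ha b hb => Subtype.ext (C.comm _ (mem_subgroupOf.1 ha) _ (mem_subgroupOf.1 hb)))
    (fun W hW hodd => by
      refine (map_eq_bot_iff_of_injective W X.subtype_injective).1 (C.odd_normalized_eq_bot ?_ ?_)
      · rwa [Nat.card_congr (W.equivMapOfInjective _ X.subtype_injective).toEquiv.symm]
      · rintro s hs _ ⟨w, hw, rfl⟩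
        exact ⟨_, hW.conj_mem w hw ⟨s, hSX hs⟩, rfl⟩)
  exact (Subgroup.normal_subgroupOf_iff_le_normalizer hSX).1 hn

theorem centralizer_le_normalizer' {a : G} (ha : a ∈ S) (ha1 : a ≠ 1) :
    centralizer ({a} : Set G) ≤ normalizer (S : Set G) := by
  refine C.le_normalizer_of_le (fun s hs => mem_centralizer_singleton_iff.2 (C.comm s hs a ha)) ?_
  intro h
  refine ha1 (Subgroup.mem_bot.1 (C.center_eq_bot ▸ Subgroup.mem_center_iff.2 fun g => ?_))
  exact mem_centralizer_singleton_iff.1 (h ▸ Subgroup.mem_top g)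

theorem two_le {U : Subgroup G} (hU : IsPGroup 2 U) (hn : U ≤ normalizer (S : Set G)) :
    U ≤ S := by
  haveI : Fact (Nat.Prime 2) := ⟨Nat.prime_two⟩
  let P : Sylow 2 G := C.two.toSylow (fun h => (Nat.not_even_iff_odd.2 C.sylow) (even_iff_two_dvd.2 h))
  have h1 : IsPGroup 2 (U ⊔ S : Subgroup G) := hU.to_sup_of_normal_right' C.two hn
  have h2 : U ⊔ S = (P : Subgroup G) := P.is_maximal' h1 le_sup_right
  exact le_sup_left.trans h2.le

theorem mem_of_two_elem {x : G} (hx : ∃ k : ℕ, x ^ 2 ^ k = 1)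
    (hn : x ∈ normalizer (S : Set G)) : x ∈ S := by
  haveI : Fact (Nat.Prime 2) := ⟨Nat.prime_two⟩
  obtain ⟨k, hk⟩ := hx
  obtain ⟨j, -, hj⟩ := (Nat.dvd_prime_pow Nat.prime_two).1 (orderOf_dvd_of_pow_eq_one hk)
  exact C.two_le (IsPGroup.of_card (n := j) (by rw [Nat.card_zpowers, hj]))
    ((zpowers_le).2 hn) (mem_zpowers x)

/-- An involution commuting with a nontrivial element of `S` lies in `S`. -/
theorem mem_of_commute {a x : G} (ha : a ∈ S) (ha1 : a ≠ 1) (hx : orderOf x = 2)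
    (hc : x * a = a * x) : x ∈ S :=
  C.mem_of_two_elem ⟨1, by rw [pow_one, ← hx, pow_orderOf_eq_one]⟩
    (C.centralizer_le_normalizer' ha ha1 (mem_centralizer_singleton_iff.2 hc))

theorem mem_normalizer_of_conj {g a : G} (ha : a ∈ S) (ha1 : a ≠ 1) (hga : g * a * g⁻¹ ∈ S) :
    g ∈ normalizer (S : Set G) := by
  have hne : g * a * g⁻¹ ≠ 1 := fun h => ha1 (by simpa using h)
  have hle : S.map (MulAut.conj g).toMonoidHom ≤ S := by
    refine C.two_le (C.two.map _) ?_
    rintro _ ⟨s, hs, rfl⟩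
    refine C.centralizer_le_normalizer' hga hne (mem_centralizer_singleton_iff.2 ?_)
    show g * s * g⁻¹ * (g * a * g⁻¹) = g * a * g⁻¹ * (g * s * g⁻¹)
    calc g * s * g⁻¹ * (g * a * g⁻¹) = g * (s * a) * g⁻¹ := by group
      _ = g * (a * s) * g⁻¹ := by rw [C.comm s hs a ha]
      _ = _ := by group
  have heq : S.map (MulAut.conj g).toMonoidHom = S :=
    Subgroup.eq_of_le_of_card_ge hle
      (le_of_eq (Nat.card_congr (S.equivMapOfInjective _ (MulAut.conj g).injective).toEquiv))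
  exact mem_normalizer_iff_map_conj_eq.2 heq

theorem exists_conj_mem {U : Subgroup G} (hU : IsPGroup 2 U) :
    ∃ g : G, U ≤ S.map (MulAut.conj g).toMonoidHom := by
  haveI : Fact (Nat.Prime 2) := ⟨Nat.prime_two⟩
  let P : Sylow 2 G := C.two.toSylow (fun h => (Nat.not_even_iff_odd.2 C.sylow) (even_iff_two_dvd.2 h))
  obtain ⟨Q, hQ⟩ := hU.exists_le_sylow
  obtain ⟨g, hg⟩ := MulAction.exists_smul_eq G P Q
  refine ⟨g, hQ.trans ?_⟩
  rw [← hg]
  exact le_rfl

theorem two_comm {U : Subgroup G} (hU : IsPGroup 2 U) : ∀ a ∈ U, ∀ b ∈ U, a * b = b * a := by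
  obtain ⟨g, hg⟩ := C.exists_conj_mem hU
  exact fun a ha b hb => (C.move g α).comm a (hg ha) b (hg hb)

theorem exists_invol : ∃ t ∈ S, orderOf t = 2 := by
  haveI : Fact (Nat.Prime 2) := ⟨Nat.prime_two⟩
  obtain ⟨n, hn⟩ := IsPGroup.iff_card.1 C.two
  have h2 : 2 ∣ Nat.card S := by
    rcases n with _ | n
    · exact absurd ((Subgroup.eq_bot_iff_card S).2 (by rw [hn, pow_zero])) C.S_ne_bot
    · rw [hn, pow_succ]; exact dvd_mul_left _ _
  obtain ⟨t, ht⟩ := exists_prime_orderOf_dvd_card' 2 h2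
  exact ⟨t, t.2, by rw [Subgroup.orderOf_coe]; exact ht⟩

theorem conj_of_not_mem {x y : G} (hx : x ∈ S) (hxo : orderOf x = 2) (hy : y ∉ S)
    (hyo : orderOf y = 2) : ∃ g : G, g * x * g⁻¹ = y := by
  have hx2 := CfsgLib.Invol.mul_self_eq_one hxo
  have hy2 := CfsgLib.Invol.mul_self_eq_one hyo
  rcases Nat.even_or_odd (orderOf (x * y)) with hev | hodd
  · exfalso
    have hz := CfsgLib.Invol.middle_orderOf hev (orderOf_pos _)
    obtain ⟨hzx, hzy⟩ := CfsgLib.Invol.middle_commute hx2 hy2 hev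
    have hzS := C.mem_of_commute hx (CfsgLib.Invol.ne_one_of_invol hxo) hz hzx.eq
    exact hy (C.mem_of_commute hzS (CfsgLib.Invol.ne_one_of_invol hz) hyo hzy.symm.eq)
  · obtain ⟨d, -, hd⟩ := CfsgLib.Invol.exists_conj_of_odd hx2 hy2 hodd
    exact ⟨d, hd⟩

/-- The point stabilizer in `N(S)` is transitive on the involutions of `S`. -/
theorem conj_invol {x y : G} (hx : x ∈ S) (hxo : orderOf x = 2) (hy : y ∈ S)
    (hyo : orderOf y = 2) :
    ∃ a ∈ MulAction.stabilizer G α, a ∈ normalizer (S : Set G) ∧ a * x * a⁻¹ = y := by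
  obtain ⟨z, hz, hzo⟩ : ∃ z : G, z ∉ S ∧ orderOf z = 2 := by
    by_contra hno
    push Not at hno
    refine C.normalizer_ne_top (eq_top_iff.2 fun g _ => ?_)
    refine C.mem_normalizer_of_conj hx (CfsgLib.Invol.ne_one_of_invol hxo) ?_
    by_contra hg
    exact hno _ hg (by rw [CfsgLib.Invol.orderOf_conj, hxo])
  obtain ⟨g₁, hg₁⟩ := C.conj_of_not_mem hx hxo hz hzo
  obtain ⟨g₂, hg₂⟩ := C.conj_of_not_mem hy hyo hz hzo
  have hgy : (g₂⁻¹ * g₁) * x * (g₂⁻¹ * g₁)⁻¹ = y := by
    have : g₂⁻¹ * (g₁ * x * g₁⁻¹) * g₂ = y := by rw [hg₁, ← hg₂]; group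
    rw [← this]; group
  have hgN := C.mem_normalizer_of_conj hx (CfsgLib.Invol.ne_one_of_invol hxo) (g := g₂⁻¹ * g₁)
    (by rw [hgy]; exact hy)
  obtain ⟨s, hs, h, hh, e⟩ := C.mul_decomp (g₂⁻¹ * g₁)
  have hhN : h ∈ normalizer (S : Set G) := by
    have : h = s⁻¹ * (g₂⁻¹ * g₁) := by rw [e, inv_mul_cancel_left]
    rw [this]; exact mul_mem (inv_mem (Subgroup.le_normalizer hs)) hgN
  refine ⟨h, hh, hhN, ?_⟩
  rw [e] at hgy
  have h1 : h * x * h⁻¹ = s⁻¹ * y * s := by rw [← hgy]; group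
  rw [h1, mul_assoc, C.comm y hy s hs, inv_mul_cancel_left]

theorem conj_invol_all {t y : G} (ht : t ∈ S) (hto : orderOf t = 2) (hyo : orderOf y = 2) :
    ∃ h ∈ MulAction.stabilizer G α, h * t * h⁻¹ = y := by
  obtain ⟨g, hg⟩ : ∃ g : G, g * t * g⁻¹ = y := by
    by_cases hy : y ∈ S
    · obtain ⟨a, -, -, e⟩ := C.conj_invol ht hto hy hyo
      exact ⟨a, e⟩
    · exact C.conj_of_not_mem ht hto hy hyo
  obtain ⟨h, hh, s, hs, rfl⟩ := C.mul_decomp' g
  refine ⟨h, hh, ?_⟩
  rw [← hg]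
  have : s * t * s⁻¹ = t := by rw [C.comm s hs t ht, mul_inv_cancel_right]
  calc h * t * h⁻¹ = h * (s * t * s⁻¹) * h⁻¹ := by rw [this]
    _ = _ := by group

end Ctx

end CfsgLib.OddProduct
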